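import Groth.Agent.VertIntLib.Comp
import Groth.Agent.HilbPolyLib.IntNum
import Groth.Agent.GenusZeroLib.Degrees
import Groth.Agent.GenusZeroLib.Mult
import Groth.Agent.CurvLib.Divisor
import Groth.Agent.SymSqLib.Pic
import Groth.Agent.PicPnLib.Rel
import Groth.Agent.KFlatLib.PerfectPull
import Groth.Agent.IntMultLib.Positive
import Groth.Agent.SurfNumLib.IdealMul
import Groth.Agent.SurfAmpleLib.Prod
import Groth.Agent.ModPairLib.Coprod
import Groth.Agent.ModPairLib.Extra
import Groth.Agent.NodalLib.Conj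
import Groth.Agent.HilbPtsLib.ConnOpen

/-!
# Intersection numbers with vertical curves
-/

set_option autoImplicit false
set_option backward.isDefEq.respectTransparency false
set_option linter.style.haveILetI false
set_option linter.unusedSectionVars false
set_option maxHeartbeats 800000
universe u
open AlgebraicGeometry CategoryTheory CategoryTheory.Limits TopologicalSpace IsLocalRing Opposite
open KFlatLib (pb)

noncomputable section

namespace VertIntLib

/-! ### Global functions of schemes over `Spec A` -/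

section Global

variable {A : Type u} [CommRing A]

/-- Constants as global functions. -/
abbrev gρ {P : Scheme.{u}} (q : P ⟶ Spec (CommRingCat.of A)) : A →+* Γ(P, ⊤) := Coh.toGlobal q

theorem gρ_comp {P Q : Scheme.{u}} (a : P ⟶ Q) (q : Q ⟶ Spec (CommRingCat.of A)) (r : A) :
    gρ (a ≫ q) r = a.appTop.hom (gρ q r) := rfl

/-- The `A`-module of global functions of `q : P ⟶ Spec A`. -/
@[reducible] def gmod {P : Scheme.{u}} (q : P ⟶ Spec (CommRingCat.of A)) : Module A Γ(P, ⊤) :=
  Module.compHom _ (gρ q)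

/-- The rank of the global functions. -/
def gfin {P : Scheme.{u}} (q : P ⟶ Spec (CommRingCat.of A)) : ℕ :=
  letI := gmod q
  Module.finrank A Γ(P, ⊤)

/-- The length of the global functions. -/
def glen {P : Scheme.{u}} (q : P ⟶ Spec (CommRingCat.of A)) : ℕ∞ :=
  letI := gmod q
  Module.length A Γ(P, ⊤)

/-- An isomorphism of schemes over `Spec A` on global functions. -/
def gEquiv {P Q : Scheme.{u}} (e : P ≅ Q) (q : Q ⟶ Spec (CommRingCat.of A)) :
    letI := gmod q; letI := gmod (e.hom ≫ q); Γ(Q, ⊤) ≃ₗ[A] Γ(P, ⊤) :=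
  letI := gmod q
  letI := gmod (e.hom ≫ q)
  { (asIso e.hom.appTop).commRingCatIsoToRingEquiv.toAddEquiv with
    map_smul' := fun r x => by
      show e.hom.appTop.hom (gρ q r * x) = gρ (e.hom ≫ q) r * e.hom.appTop.hom x
      rw [map_mul, gρ_comp] }

theorem gfin_iso {P Q : Scheme.{u}} (e : P ≅ Q) (q : Q ⟶ Spec (CommRingCat.of A)) :
    gfin (e.hom ≫ q) = gfin q := by
  letI := gmod q
  letI := gmod (e.hom ≫ q)
  exact (gEquiv e q).finrank_eq.symm

theorem glen_iso {P Q : Scheme.{u}} (e : P ≅ Q) (q : Q ⟶ Spec (CommRingCat.of A)) :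
    glen (e.hom ≫ q) = glen q := by
  letI := gmod q
  letI := gmod (e.hom ≫ q)
  exact (gEquiv e q).length_eq.symm

/-- A closed immersion into `W` may be replaced by its image. -/
theorem gfin_image {P W : Scheme.{u}} (a : P ⟶ W) [IsClosedImmersion a] {J : W.IdealSheafData}
    (h : a.ker = J) (q : W ⟶ Spec (CommRingCat.of A)) : gfin (a ≫ q) = gfin (J.subschemeι ≫ q) := by
  subst h
  conv_lhs => rw [← Scheme.Hom.toImage_imageι a, Category.assoc]
  exact gfin_iso (asIso a.toImage) _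

theorem glen_image {P W : Scheme.{u}} (a : P ⟶ W) [IsClosedImmersion a] {J : W.IdealSheafData}
    (h : a.ker = J) (q : W ⟶ Spec (CommRingCat.of A)) : glen (a ≫ q) = glen (J.subschemeι ≫ q) := by
  subst h
  conv_lhs => rw [← Scheme.Hom.toImage_imageι a, Category.assoc]
  exact glen_iso (asIso a.toImage) _

/-- `H⁰` of the structure sheaf of a closed subscheme. -/
def hhQuot {W : Scheme.{u}} [W.Over (Spec (CommRingCat.of A))] (J : W.IdealSheafData) :
    letI := gmod (J.subschemeι ≫ (W ↘ Spec (CommRingCat.of A)))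
    Coh.HH W (ClSub.quotMod J) 0 ≃ₗ[A] Γ(J.subscheme, ⊤) :=
  letI := gmod (J.subschemeι ≫ (W ↘ Spec (CommRingCat.of A)))
  { (show Coh.HH W (ClSub.quotMod J) 0 ≃+ Γ(J.subscheme, ⊤) from DegPullLib.e0 (ClSub.quotMod J)) with
    map_smul' := fun r x => by
      refine (DegPullLib.e0_smul (ClSub.quotMod J) _ x).trans ?_
      show J.subschemeι.appTop.hom (gρ (W ↘ Spec (CommRingCat.of A)) r) *
          (show Γ(J.subscheme, ⊤) from DegPullLib.e0 (ClSub.quotMod J) x) =
        gρ (J.subschemeι ≫ (W ↘ Spec (CommRingCat.of A))) r *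
          (show Γ(J.subscheme, ⊤) from DegPullLib.e0 (ClSub.quotMod J) x)
      rw [gρ_comp] }

theorem finrank_hhQuot {W : Scheme.{u}} [W.Over (Spec (CommRingCat.of A))] (J : W.IdealSheafData) :
    Module.finrank A (Coh.HH W (ClSub.quotMod J) 0) =
      gfin (J.subschemeι ≫ (W ↘ Spec (CommRingCat.of A))) := by
  letI := gmod (J.subschemeι ≫ (W ↘ Spec (CommRingCat.of A)))
  exact (hhQuot J).finrank_eq

theorem length_hhQuot {W : Scheme.{u}} [W.Over (Spec (CommRingCat.of A))] (J : W.IdealSheafData) :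
    Module.length A (Coh.HH W (ClSub.quotMod J) 0) =
      glen (J.subschemeι ≫ (W ↘ Spec (CommRingCat.of A))) := by
  letI := gmod (J.subschemeι ≫ (W ↘ Spec (CommRingCat.of A)))
  exact (hhQuot J).length_eq

end Global

variable {R : Type u} [CommRing R] [IsDomain R] [IsDiscreteValuationRing R]
  {X : Over (Spec (CommRingCat.of R))}

local notation "κ" => IsLocalRing.ResidueField R

theorem isProper_of_isArithSurface (hX : ArSurf.IsArithSurface R X) : IsProper X.hom := by
  obtain ⟨-, -, -, -, n, i, hi, hiX⟩ := hX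
  haveI := hi
  haveI : IsProper (CohB1.ProjSpaceOver.toBase n (Spec (CommRingCat.of R))) :=
    ChowLib.isProper_toBase n _
  rw [← hiX]
  infer_instance

theorem over_hom (Γ : ArSurf.VertComp R X) :
    (Γ.curve.left ↘ Spec (CommRingCat.of κ)) ≫ Spec.map (CommRingCat.ofHom (residue R)) = Γ.ι ≫ X.hom :=
  Γ.w.symm

theorem isProper_curve [IsProper X.hom] (Γ : ArSurf.VertComp R X) :
    IsProper (Γ.curve.left ↘ Spec (CommRingCat.of κ)) := by
  haveI : IsProper ((Γ.curve.left ↘ Spec (CommRingCat.of κ)) ≫ Spec.map (CommRingCat.ofHom (residue R))) := by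
    rw [over_hom]; infer_instance
  exact IsProper.of_comp _ (Spec.map (CommRingCat.ofHom (residue R)))

variable [IsProper X.hom] (Γ : ArSurf.VertComp R X)

theorem inter_eq_deg (L : X.left.Modules) :
    ArSurf.inter R X L Γ = Curv2.deg κ Γ.curve.left (pb Γ.ι L) 1 := by
  haveI := isProper_curve Γ
  have hd : topologicalKrullDim Γ.curve.left ≤ ((1 : ℕ) : WithBot ℕ∞) := Γ.dim_eq.le
  rw [ArSurf.inter, ArSurf.curveDeg, HilbPolyLib.eulerCharLE_eq (k := κ) hd,
    HilbPolyLib.eulerCharLE_eq (k := κ) hd, Curv2.deg, Nat.cast_one, one_mul]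

theorem isInvertible_inverse {W : Scheme.{u}} {L : W.Modules} {I : W.IdealSheafData}
    (hI : BlowUp.IsEffCartierIdeal I) (hL : ClSub.IsInverseOf L (ClSub.idealMod I)) : PicF.IsInvertible L := by
  obtain ⟨e⟩ := hL
  exact IntMultLib.isInvertible_of_inverse (IntMultLib.isInvertible_idealMod I hI)
    (HilbPolyLib.swapIso _ _ ≪≫ e)

theorem nonempty_pb_inverse {V W : Scheme.{u}} (f : V ⟶ W) {L M : W.Modules} (hL : ClSub.IsInverseOf L M) :
    ClSub.IsInverseOf (pb f L) (pb f M) := by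
  obtain ⟨e⟩ := hL
  exact ⟨(PicPnLib.pullTens f L M).symm ≪≫ (Scheme.Modules.pullback f).mapIso e ≪≫ KFlatLib.pullUnitIso f⟩

/-- The degree on `Γ` of the ideal of a divisor. -/
def dId (I : X.left.IdealSheafData) : ℤ := Curv2.deg κ Γ.curve.left (pb Γ.ι (ClSub.idealMod I)) 1

theorem inter_eq_neg {I : X.left.IdealSheafData} (hI : BlowUp.IsEffCartierIdeal I) {L : X.left.Modules}
    (hL : ClSub.IsInverseOf L (ClSub.idealMod I)) : ArSurf.inter R X L Γ = - dId Γ I := by
  haveI := isProper_curve Γ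
  obtain ⟨e⟩ := nonempty_pb_inverse Γ.ι hL
  have h := GenusZeroLib.deg_tensor κ Γ.dim_eq
    (AmpleDevLib.isInvertible_pb Γ.ι (isInvertible_inverse hI hL))
    (AmpleDevLib.isInvertible_pb Γ.ι (IntMultLib.isInvertible_idealMod I hI))
  rw [CurvLib.deg_congr e 1] at h
  have h0 : Curv2.deg κ Γ.curve.left (Coh.structureModule Γ.curve.left) 1 = 0 := by simp [Curv2.deg]
  rw [inter_eq_deg, dId]
  omega

theorem dId_mul {I J : X.left.IdealSheafData} (hI : BlowUp.IsEffCartierIdeal I)
    (hJ : BlowUp.IsEffCartierIdeal J) : dId Γ (I * J) = dId Γ I + dId Γ J := by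
  haveI := isProper_curve Γ
  obtain ⟨e⟩ := SurfNumLib.nonempty_idealMod_mul hI hJ
  rw [dId, ← CurvLib.deg_congr ((PicPnLib.pullTens Γ.ι _ _).symm ≪≫ (Scheme.Modules.pullback Γ.ι).mapIso e) 1]
  exact GenusZeroLib.deg_tensor κ Γ.dim_eq
    (AmpleDevLib.isInvertible_pb Γ.ι (IntMultLib.isInvertible_idealMod I hI))
    (AmpleDevLib.isInvertible_pb Γ.ι (IntMultLib.isInvertible_idealMod J hJ))

theorem dId_one : dId Γ (1 : X.left.IdealSheafData) = 0 := by
  have h := dId_mul Γ (SurfAmpleLib.isEffCartier_one (X := X.left)) SurfAmpleLib.isEffCartier_one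
  rw [mul_one] at h
  omega

theorem dId_pow {I : X.left.IdealSheafData} (hI : BlowUp.IsEffCartierIdeal I) :
    ∀ m : ℕ, dId Γ (I ^ m) = m * dId Γ I
  | 0 => by rw [pow_zero, dId_one, Nat.cast_zero, zero_mul]
  | m + 1 => by
    rw [pow_succ, dId_mul Γ (SurfAmpleLib.isEffCartier_pow' hI m) hI, dId_pow hI m]
    push_cast
    ring

theorem dId_prod {ι : Type*} (s : Finset ι) {I : ι → X.left.IdealSheafData}
    (hI : ∀ i ∈ s, BlowUp.IsEffCartierIdeal (I i)) : dId Γ (∏ i ∈ s, I i) = ∑ i ∈ s, dId Γ (I i) := by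
  classical
  induction s using Finset.induction with
  | empty => rw [Finset.prod_empty, Finset.sum_empty, dId_one]
  | insert a s ha ih =>
    rw [Finset.prod_insert ha, Finset.sum_insert ha,
      dId_mul Γ (hI a (Finset.mem_insert_self a s))
        (SurfAmpleLib.isEffCartier_finprod s fun i hi => hI i (Finset.mem_insert_of_mem hi)),
      ih fun i hi => hI i (Finset.mem_insert_of_mem hi)]

/-- The closed fibre has degree zero on every component. -/
theorem dId_fibre [IsIntegral X.left] [Flat X.hom] : dId Γ (Models.specialFibreIdeal R X) = 0 := by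
  haveI := isProper_curve Γ
  obtain ⟨ϖ, hϖ'⟩ := IsDiscreteValuationRing.exists_irreducible R
  have hϖ : maximalIdeal R = Ideal.span {ϖ} := hϖ'.maximalIdeal_eq
  haveI : IsIntegral (Spec (CommRingCat.of R)) := inferInstance
  set K := Curv2.idealSheaf R (maximalIdeal R)
  set T : (Spec (CommRingCat.of R)).affineOpens := ⟨⊤, isAffineOpen_top _⟩
  set a : Γ(Spec (CommRingCat.of R), T) := (Scheme.ΓSpecIso (CommRingCat.of R)).inv.hom ϖ
  have hKa : K.ideal T = Ideal.span {a} := by
    simp only [K, T, a, Curv2.idealSheaf, Scheme.IdealSheafData.ofIdealTop_ideal, homOfLE_refl, op_id,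
      CategoryTheory.Functor.map_id, CommRingCat.hom_id, hϖ, Ideal.map_span, Set.image_singleton]
    rfl
  have ha : a ∈ nonZeroDivisors Γ(Spec (CommRingCat.of R), T) := by
    refine mem_nonZeroDivisors_of_ne_zero fun h => hϖ'.ne_zero ?_
    exact (Scheme.ΓSpecIso (CommRingCat.of R)).commRingCatIsoToRingEquiv.symm.injective
      (h.trans (map_zero _).symm)
  have hK : BlowUp.IsEffCartierIdeal K := fun x => ⟨T, trivial, a, ha, hKa⟩
  obtain ⟨σ, hσ⟩ := IntMultLib.exists_section K T (hKa ▸ Ideal.mem_span_singleton_self a : a ∈ K.ideal T)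
  haveI := AmpleLib.isIso_unitHom σ (SurfNumLib.genOn_of_generator K T ha hKa hσ)
  have e : ClSub.idealMod K ≅ Coh.structureModule (Spec (CommRingCat.of R)) :=
    (asIso (QCohLib.unitHom (ClSub.idealMod K) σ)).symm
  have hF : BlowUp.IsEffCartierIdeal (K.comap X.hom) := BlowUpLib.isEffCartier_comap_of_flat X.hom hK
  obtain ⟨e'⟩ := SymSqLib.nonempty_pb_ideal X.hom K (IntMultLib.isInvertible_idealMod K hK)
    (IntMultLib.isInvertible_idealMod _ hF)
  rw [dId, show Models.specialFibreIdeal R X = K.comap X.hom from rfl,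
    CurvLib.deg_congr ((Scheme.Modules.pullback Γ.ι).mapIso (e'.symm ≪≫
      (Scheme.Modules.pullback X.hom).mapIso e ≪≫ KFlatLib.pullUnitIso X.hom) ≪≫ KFlatLib.pullUnitIso Γ.ι) 1]
  simp [Curv2.deg]

/-- An effective Cartier divisor not through the generic point cuts one out on the curve. -/
theorem isEffCartier_comap_ι {I : X.left.IdealSheafData} (hI : BlowUp.IsEffCartierIdeal I)
    (hγ : Models.genPtOf R X Γ ∉ I.support) : BlowUp.IsEffCartierIdeal (I.comap Γ.ι) := by
  haveI := isProper_curve Γ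
  haveI : IsLocallyNoetherian Γ.curve.left :=
    LocallyOfFiniteType.isLocallyNoetherian (Γ.curve.left ↘ Spec (CommRingCat.of κ))
  set U : Γ.curve.left.Opens := Γ.ι ⁻¹ᵁ ModPair.interior I
  have hU : genericPoint Γ.curve.left ∈ U := hγ
  haveI : IsDominant U.ι := by
    rw [isDominant_iff, DenseRange, Scheme.Opens.range_ι]
    exact U.isOpen.dense ⟨_, hU⟩
  haveI : IsSchemeTheoreticallyDominant U.ι := .of_isDominant _
  exact ModPairLib.isEffCartier_comap_of_dominant hI Γ.ι U.ι fun z => z.2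

/-- `L · Γ` is the degree of `Γ ∩ D` for an effective `D` not containing `Γ`. -/
theorem inter_effective {I : X.left.IdealSheafData} (hI : BlowUp.IsEffCartierIdeal I)
    (hγ : Models.genPtOf R X Γ ∉ I.support) {L : X.left.Modules}
    (hL : ClSub.IsInverseOf L (ClSub.idealMod I)) :
    ArSurf.inter R X L Γ =
      (gfin ((I.comap Γ.ι).subschemeι ≫ (Γ.curve.left ↘ Spec (CommRingCat.of κ))) : ℤ) := by
  haveI := isProper_curve Γ
  have hJ := isEffCartier_comap_ι Γ hI hγ
  obtain ⟨ψ⟩ := SymSqLib.nonempty_pb_ideal Γ.ι I (IntMultLib.isInvertible_idealMod I hI)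
    (IntMultLib.isInvertible_idealMod _ hJ)
  obtain ⟨φ⟩ := nonempty_pb_inverse Γ.ι hL
  have hL' := AmpleDevLib.isInvertible_pb Γ.ι (isInvertible_inverse hI hL)
  have h := CurvLib.euler_tensor_divisor κ Γ.dim_eq.le hJ hL'
    ⟨HilbPolyLib.congrRight _ ψ.symm ≪≫ φ⟩ (n := 1) (E := Coh.structureModule Γ.curve.left)
    (CurvLib.locFree_of_isInvertible CurvLib.isInvertible_structureModule)
  rw [CurvLib.euler_congr (HilbPolyLib.unitLeft _), finrank_hhQuot] at h
  rw [inter_eq_deg, Curv2.deg]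
  push_cast at h ⊢
  linarith

theorem finite_hh (J : Γ.curve.left.IdealSheafData) :
    Module.Finite κ (Coh.HH Γ.curve.left (ClSub.quotMod J) 0) := by
  haveI := isProper_curve Γ
  haveI : IsLocallyNoetherian Γ.curve.left :=
    LocallyOfFiniteType.isLocallyNoetherian (Γ.curve.left ↘ Spec (CommRingCat.of κ))
  exact CurvLib.finite_HH (k := κ) (CurvLib.isCoh_quotMod J) 0

theorem gfin_eq_zero_iff (J : Γ.curve.left.IdealSheafData) :
    gfin (J.subschemeι ≫ (Γ.curve.left ↘ Spec (CommRingCat.of κ))) = 0 ↔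
      (J.support : Set Γ.curve.left) = ∅ := by
  haveI := finite_hh Γ J
  rw [← finrank_hhQuot, Module.finrank_zero_iff, (hhQuot (A := κ) J).toEquiv.subsingleton_congr,
    ← J.range_subschemeι, Set.range_eq_empty_iff]
  constructor
  · intro h
    by_contra hne
    obtain ⟨z⟩ := not_isEmpty_iff.1 hne
    haveI := (J.subscheme.presheaf.germ ⊤ z trivial).hom.domain_nontrivial
    exact false_of_nontrivial_of_subsingleton Γ(J.subscheme, ⊤)
  · intro h
    rw [show (⊤ : J.subscheme.Opens) = ⊥ from TopologicalSpace.Opens.ext (Set.ext fun z => h.elim z)]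
    exact CommRingCat.subsingleton_of_isTerminal J.subscheme.sheaf.isTerminalOfEmpty

/-- The length over `R` of a divisor on the curve. -/
theorem glen_eq (J : Γ.curve.left.IdealSheafData) :
    glen (A := R) ((J.subschemeι ≫ (Γ.curve.left ↘ Spec (CommRingCat.of κ))) ≫
      Spec.map (CommRingCat.ofHom (residue R))) =
      (gfin (J.subschemeι ≫ (Γ.curve.left ↘ Spec (CommRingCat.of κ))) : ℕ∞) := by
  set q := J.subschemeι ≫ (Γ.curve.left ↘ Spec (CommRingCat.of κ))
  letI := gmod q
  letI := gmod (q ≫ Spec.map (CommRingCat.ofHom (residue R)))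
  haveI : IsScalarTower R κ Γ(J.subscheme, ⊤) := IsScalarTower.of_algebraMap_smul fun r x => by
    show gρ q (residue R r) * x = gρ (q ≫ Spec.map (CommRingCat.ofHom (residue R))) r * x
    exact congrArg (· * x) (NodalLib.toGlobal_comp_specMap' q (CommRingCat.ofHom (residue R)) r).symm
  haveI := finite_hh Γ J
  haveI : Module.Finite κ Γ(J.subscheme, ⊤) := Module.Finite.equiv (hhQuot (A := κ) J)
  rw [glen, gfin, Module.length_eq_of_surjective (R := κ) residue_surjective, Module.length_eq_finrank]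

theorem inter_eq_lengthH {I : X.left.IdealSheafData} (hI : BlowUp.IsEffCartierIdeal I)
    (hγ : Models.genPtOf R X Γ ∉ I.support) {L : X.left.Modules}
    (hL : ClSub.IsInverseOf L (ClSub.idealMod I)) :
    ArSurf.inter R X L Γ = (Models.lengthH R X (ClSub.quotMod (I ⊔ Γ.ι.ker)) 0 : ℤ) := by
  have hker : ((I.comap Γ.ι).subschemeι ≫ Γ.ι).ker = I ⊔ Γ.ι.ker := by
    rw [Scheme.Hom.ker_comp, Scheme.IdealSheafData.ker_subschemeι,
      ← HilbPts.Conn.map_comap_of_ker_le (j := Γ.ι) (K := I ⊔ Γ.ι.ker) le_sup_right,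
      Scheme.IdealSheafData.comap_sup,
      show Γ.ι.ker.comap Γ.ι = ⊥ from (congrArg (fun K => K.comap Γ.ι)
        (Scheme.IdealSheafData.map_bot Γ.ι).symm).trans (ModPairLib.comap_map_eq ⊥ Γ.ι),
      sup_bot_eq]
  rw [inter_effective Γ hI hγ hL, Models.lengthH, length_hhQuot, ← glen_image _ hker]
  show _ = ((glen (A := R) (((I.comap Γ.ι).subschemeι ≫ Γ.ι) ≫ X.hom)).toNat : ℤ)
  rw [Category.assoc, ← over_hom, ← Category.assoc, glen_eq, ENat.toNat_natCast]

theorem inter_effective_nonneg {I : X.left.IdealSheafData} (hI : BlowUp.IsEffCartierIdeal I)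
    (hγ : Models.genPtOf R X Γ ∉ I.support) {L : X.left.Modules}
    (hL : ClSub.IsInverseOf L (ClSub.idealMod I)) :
    0 ≤ ArSurf.inter R X L Γ ∧
      (ArSurf.inter R X L Γ = 0 ↔ Disjoint (Set.range Γ.ι.base) (I.support : Set X.left)) := by
  rw [inter_effective Γ hI hγ hL]
  refine ⟨Int.natCast_nonneg _, ?_⟩
  rw [Int.natCast_eq_zero, gfin_eq_zero_iff, Scheme.IdealSheafData.support_comap, Closeds.coe_preimage,
    Set.preimage_eq_empty_iff, disjoint_comm]

theorem genPt_not_mem_of_isFibGen (hg : IsFibGen (Models.genPtOf R X Γ)) (Γ' : ArSurf.VertComp R X) (hne : Set.range Γ.ι.base ≠ Set.range Γ'.ι.base) :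
    Models.genPtOf R X Γ ∉ Γ'.ι.ker.support := by
  intro h
  have h' : Models.genPtOf R X Γ ∈ Set.range Γ'.ι := by
    have h2 : Models.genPtOf R X Γ ∈ (Γ'.ι.ker.support : Set X.left) := h
    rwa [Scheme.Hom.support_ker, Γ'.ι.isClosedEmbedding.isClosed_range.closure_eq] at h2
  obtain ⟨c, hc⟩ := h'
  have hsp : Models.genPtOf R X Γ' ⤳ Models.genPtOf R X Γ :=
    hc ▸ ((genericPoint_spec Γ'.curve.left).specializes trivial).map Γ'.ι.continuous
  have heq := hg _ (genPt_over Γ') hsp
  have key : ∀ Γ₀ : ArSurf.VertComp R X, Set.range Γ₀.ι.base = closure {Models.genPtOf R X Γ₀} := fun Γ₀ => by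
    rw [Models.genPtOf, ← Set.image_singleton, Γ₀.ι.isClosedEmbedding.closure_image_eq,
      (genericPoint_spec Γ₀.curve.left).def, Set.image_univ]
  exact hne (by rw [key, key, heq])

theorem genPt_not_mem (hd : topologicalKrullDim X.left ≤ 2) [Flat X.hom] [IsIntegral X.left]
    (Γ' : ArSurf.VertComp R X) (hne : Set.range Γ.ι.base ≠ Set.range Γ'.ι.base) :
    Models.genPtOf R X Γ ∉ Γ'.ι.ker.support :=
  genPt_not_mem_of_isFibGen Γ (isFibGen_of_dim hd Γ) Γ' hne

/-- Intersection numbers of distinct vertical curves are symmetric. -/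
theorem inter_symm {Γ₁ Γ₂ : ArSurf.VertComp R X}
    (h₁ : BlowUp.IsEffCartierIdeal Γ₁.ι.ker) (h₂ : BlowUp.IsEffCartierIdeal Γ₂.ι.ker)
    (h12 : Models.genPtOf R X Γ₁ ∉ Γ₂.ι.ker.support) (h21 : Models.genPtOf R X Γ₂ ∉ Γ₁.ι.ker.support)
    {L₁ L₂ : X.left.Modules} (hL₁ : ClSub.IsInverseOf L₁ (ClSub.idealMod Γ₁.ι.ker))
    (hL₂ : ClSub.IsInverseOf L₂ (ClSub.idealMod Γ₂.ι.ker)) :
    ArSurf.inter R X L₂ Γ₁ = ArSurf.inter R X L₁ Γ₂ := by
  rw [inter_effective Γ₁ h₂ h12 hL₂, inter_effective Γ₂ h₁ h21 hL₁,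
    ← gfin_image (pullback.fst Γ₁.ι Γ₂.ι) (Scheme.IdealSheafData.ker_fst_of_isClosedImmersion Γ₂.ι Γ₁.ι),
    ← gfin_image (pullback.fst Γ₂.ι Γ₁.ι) (Scheme.IdealSheafData.ker_fst_of_isClosedImmersion Γ₁.ι Γ₂.ι),
    ← gfin_iso (pullbackSymmetry Γ₁.ι Γ₂.ι) (pullback.fst Γ₂.ι Γ₁.ι ≫ _)]
  congr 2
  haveI : IsClosedImmersion (Spec.map (CommRingCat.ofHom (residue R))) :=
    IsClosedImmersion.spec_of_surjective _ residue_surjective
  rw [← cancel_mono (Spec.map (CommRingCat.ofHom (residue R)))]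
  simp only [Category.assoc, pullbackSymmetry_hom_comp_fst_assoc, over_hom]
  rw [pullback.condition_assoc]

end VertIntLib
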