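import Mathlib.Algebra.BigOperators.Field
import Mathlib.Algebra.Order.BigOperators.Ring.Finset
import Mathlib.Algebra.Order.Field.Basic
import Mathlib.Data.Fintype.BigOperators
import Mathlib.Data.Rat.Lemmas
import Mathlib.Tactic.FieldSimp
import Mathlib.Tactic.Ring
import Mathlib.Tactic.Linarith
import Mathlib.Tactic.Positivity

/-!
# Symmetric matrices with non-negative off-diagonal entries killing a positive vector
-/

set_option autoImplicit false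
open Finset

namespace VertIntLib

variable {ι : Type*} [Fintype ι] (a : ι → ι → ℤ) (m : ι → ℤ)

theorem quad_identity (hs : ∀ i j, a i j = a j i) (hm : ∀ i, 0 < m i) (hk : ∀ i, ∑ j, a i j * m j = 0)
    (x : ι → ℤ) :
    (2 : ℚ) * ((∑ q : ι × ι, x q.1 * x q.2 * a q.1 q.2 : ℤ) : ℚ) =
      - ∑ q : ι × ι, (a q.1 q.2 : ℚ) * m q.1 * m q.2 * ((x q.1 : ℚ) / m q.1 - (x q.2 : ℚ) / m q.2) ^ 2 := by
  have hne : ∀ i, (m i : ℚ) ≠ 0 := fun i => by exact_mod_cast (hm i).ne'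
  have hk' : ∀ i, ∑ j, (a i j : ℚ) * m j = 0 := fun i => by exact_mod_cast hk i
  have hk'' : ∀ j, ∑ i, (a i j : ℚ) * m i = 0 := fun j => by simp_rw [hs _ j]; exact hk' j
  have h1 : ∑ q : ι × ι, (a q.1 q.2 : ℚ) * m q.1 * m q.2 * ((x q.1 : ℚ) / m q.1 - (x q.2 : ℚ) / m q.2) ^ 2 =
      (∑ q : ι × ι, ((x q.1 : ℚ) ^ 2 / m q.1) * ((a q.1 q.2 : ℚ) * m q.2)) +
      (∑ q : ι × ι, ((x q.2 : ℚ) ^ 2 / m q.2) * ((a q.1 q.2 : ℚ) * m q.1)) -
      2 * ∑ q : ι × ι, (x q.1 : ℚ) * x q.2 * a q.1 q.2 := by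
    rw [mul_sum, ← sum_add_distrib, ← sum_sub_distrib]
    refine sum_congr rfl fun q _ => ?_
    have h₁ := hne q.1
    have h₂ := hne q.2
    field_simp
    ring
  have z1 : ∑ q : ι × ι, ((x q.1 : ℚ) ^ 2 / m q.1) * ((a q.1 q.2 : ℚ) * m q.2) = 0 := by
    rw [Fintype.sum_prod_type]
    exact sum_eq_zero fun i _ => by simp only []; rw [← mul_sum, hk', mul_zero]
  have z2 : ∑ q : ι × ι, ((x q.2 : ℚ) ^ 2 / m q.2) * ((a q.1 q.2 : ℚ) * m q.1) = 0 := by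
    rw [Fintype.sum_prod_type_right]
    exact sum_eq_zero fun j _ => by simp only []; rw [← mul_sum, hk'', mul_zero]
  rw [h1, z1, z2]
  push_cast
  ring

theorem term_nonneg (hm : ∀ i, 0 < m i) (ho : ∀ i j, i ≠ j → 0 ≤ a i j) (x : ι → ℤ) (q : ι × ι) :
    0 ≤ (a q.1 q.2 : ℚ) * m q.1 * m q.2 * ((x q.1 : ℚ) / m q.1 - (x q.2 : ℚ) / m q.2) ^ 2 := by
  by_cases h : q.1 = q.2
  · rw [h]; simp
  · have := ho _ _ h
    have := (hm q.1).le
    have := (hm q.2).le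
    positivity

theorem quad_nonpos (hs : ∀ i j, a i j = a j i) (hm : ∀ i, 0 < m i) (hk : ∀ i, ∑ j, a i j * m j = 0)
    (ho : ∀ i j, i ≠ j → 0 ≤ a i j) (x : ι → ℤ) : ∑ q : ι × ι, x q.1 * x q.2 * a q.1 q.2 ≤ 0 := by
  have h := quad_identity a m hs hm hk x
  have h2 := sum_nonneg fun q (_ : q ∈ (univ : Finset (ι × ι))) => term_nonneg a m hm ho x q
  have : ((∑ q : ι × ι, x q.1 * x q.2 * a q.1 q.2 : ℤ) : ℚ) ≤ 0 := by linarith
  exact_mod_cast this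

/-- The kernel is the line through `m` when the graph is connected. -/
theorem quad_eq_zero_iff (hs : ∀ i j, a i j = a j i) (hm : ∀ i, 0 < m i) (hk : ∀ i, ∑ j, a i j * m j = 0)
    (ho : ∀ i j, i ≠ j → 0 ≤ a i j)
    (hc : ∀ I : Finset ι, I.Nonempty → I ≠ univ → ∃ i ∈ I, ∃ j ∉ I, a i j ≠ 0) (x : ι → ℤ) :
    ∑ q : ι × ι, x q.1 * x q.2 * a q.1 q.2 = 0 ↔ ∃ c : ℚ, ∀ i, (x i : ℚ) = c * m i := by
  classical
  have hne : ∀ i, (m i : ℚ) ≠ 0 := fun i => by exact_mod_cast (hm i).ne'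
  constructor
  · intro h0
    have h := quad_identity a m hs hm hk x
    rw [h0, Int.cast_zero, mul_zero, zero_eq_neg,
      sum_eq_zero_iff_of_nonneg fun q _ => term_nonneg a m hm ho x q] at h
    rcases isEmpty_or_nonempty ι with hι | ⟨⟨i₀⟩⟩
    · exact ⟨0, fun i => hι.elim i⟩
    · refine ⟨(x i₀ : ℚ) / m i₀, fun i => ?_⟩
      set I := univ.filter fun j => (x j : ℚ) / m j = (x i₀ : ℚ) / m i₀
      have hI : I = univ := by
        by_contra hne'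
        obtain ⟨p, hp, q, hq, hpq⟩ := hc I ⟨i₀, mem_filter.2 ⟨mem_univ _, rfl⟩⟩ hne'
        have ht := h (p, q) (mem_univ _)
        have hap : (a p q : ℚ) ≠ 0 := by exact_mod_cast hpq
        simp only [mul_eq_zero, hap, hne p, hne q, false_or, sq_eq_zero_iff, sub_eq_zero] at ht
        exact hq (mem_filter.2 ⟨mem_univ _, ht ▸ (mem_filter.1 hp).2⟩)
      have hi : i ∈ I := hI ▸ mem_univ i
      rw [← (mem_filter.1 hi).2, div_mul_cancel₀ _ (hne i)]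
  · rintro ⟨c, hc'⟩
    have h := quad_identity a m hs hm hk x
    have hy : ∀ i, (x i : ℚ) / m i = c := fun i => by rw [hc', mul_div_assoc, div_self (hne i), mul_one]
    have hz : ∑ q : ι × ι, (a q.1 q.2 : ℚ) * m q.1 * m q.2 * ((x q.1 : ℚ) / m q.1 - (x q.2 : ℚ) / m q.2) ^ 2 = 0 :=
      sum_eq_zero fun q _ => by rw [hy, hy, sub_self, zero_pow two_ne_zero, mul_zero]
    rw [hz, neg_zero] at h
    have : ((∑ q : ι × ι, x q.1 * x q.2 * a q.1 q.2 : ℤ) : ℚ) = 0 := by linarith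
    exact_mod_cast this

end VertIntLib
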