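import Groth.Agent.VertIntLib.Prod
import Groth.Agent.VertIntLib.Degree
import Groth.Agent.VertIntLib.Quad
import Groth.Prelude.Def_Curve

/-!
# The intersection matrix of a closed fibre
-/

set_option autoImplicit false
set_option backward.isDefEq.respectTransparency false
set_option linter.style.haveILetI false
set_option linter.unusedSectionVars false
set_option maxHeartbeats 800000
universe u
open AlgebraicGeometry CategoryTheory CategoryTheory.Limits TopologicalSpace Topology IsLocalRing

noncomputable section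

namespace VertIntLib

/-- A regular model of a smooth proper curve is integral. -/
theorem isIntegral_of_model {R : Type u} [CommRing R] [IsDomain R] [IsDiscreteValuationRing R]
    {C X : Scheme.{u}} {f : C ⟶ Spec (CommRingCat.of (FractionRing R))} {p : X ⟶ Spec (CommRingCat.of R)}
    (hC : Curve.IsSmoothProperCurve (FractionRing R) C f) (hX : Models.IsModel R X p C f)
    (hreg : Models.IsRegularScheme X) : IsIntegral X := by
  obtain ⟨hflat, hlft, -, g, hg⟩ := hX
  obtain ⟨-, -, hCint, -⟩ := hC
  haveI := hflat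
  haveI := hlft
  haveI := hCint
  set η := RelMinSmLib.eta (R := R)
  have hrange : Set.range g = {x | p x = η} := by
    rw [← hg.isoPullback_hom_fst, Scheme.Hom.comp_base, TopCat.coe_comp,
      Set.range_comp, Set.range_eq_univ.2 hg.isoPullback.hom.surjective, Set.image_univ,
      Scheme.Pullback.range_fst, RelMinSmLib.range_genPt]
    rfl
  set ξ := g (genericPoint C)
  have hξ : ∀ x, ξ ⤳ x := fun x => by
    obtain ⟨x', hx', hx'η⟩ := Flat.generalizingMap p (RelMinSmLib.eta_specializes (p x))
    obtain ⟨c, rfl⟩ := hrange.ge hx'η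
    exact (((genericPoint_spec C).specializes trivial).map g.continuous).trans hx'
  have hgen' : IsGenericPoint ξ (Set.univ : Set X) :=
    Set.eq_univ_of_forall fun y => specializes_iff_mem_closure.1 (hξ y)
  haveI : IrreducibleSpace X :=
    { toPreirreducibleSpace := ⟨hgen'.isIrreducible.2⟩, toNonempty := ⟨ξ⟩ }
  haveI : IsReduced X := by
    haveI : ∀ y : X, _root_.IsReduced (X.presheaf.stalk y) := fun y => by
      haveI := hreg y
      haveI := CommAlgDim.isDomain_of_isRegularLocalRing (X.presheaf.stalk y)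
      infer_instance
    exact isReduced_of_isReduced_stalk X
  exact isIntegral_of_irreducibleSpace_of_isReduced X

variable {R : Type u} [CommRing R] [IsDomain R] [IsDiscreteValuationRing R]
  {X : Over (Spec (CommRingCat.of R))} [IsIntegral X.left] [Flat X.hom] [IsProper X.hom]
  (hreg : ∀ x : X.left, IsRegularLocalRing (X.left.presheaf.stalk x))
  {n : ℕ} {Γ : Fin n → ArSurf.VertComp R X} (hΓ : Models.IsComponentList R X Γ)
  {L : Fin n → X.left.Modules} (hL : ∀ j, ClSub.IsInverseOf (L j) (ClSub.idealMod (Γ j).ι.ker))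

include hreg hΓ hL

theorem list_symm (i j : Fin n) : ArSurf.inter R X (L j) (Γ i) = ArSurf.inter R X (L i) (Γ j) := by
  by_cases hij : i = j
  · rw [hij]
  have hg := fun i => isFibGen_of_list hΓ i
  have hne : Set.range (Γ i).ι.base ≠ Set.range (Γ j).ι.base := fun h => hij (hΓ.1 h)
  exact inter_symm (isEffCartier_ker hreg _ (hg i)) (isEffCartier_ker hreg _ (hg j))
    (genPt_not_mem_of_isFibGen _ (hg i) _ hne) (genPt_not_mem_of_isFibGen _ (hg j) _ hne.symm) (hL i) (hL j)

theorem list_offdiag {i j : Fin n} (hij : i ≠ j) :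
    0 ≤ ArSurf.inter R X (L j) (Γ i) ∧ (ArSurf.inter R X (L j) (Γ i) = 0 ↔
      Disjoint (Set.range (Γ i).ι.base) (Set.range (Γ j).ι.base)) := by
  have hg := fun i => isFibGen_of_list hΓ i
  have h := inter_effective_nonneg (Γ i) (isEffCartier_ker hreg _ (hg j))
    (genPt_not_mem_of_isFibGen _ (hg i) _ fun h => hij (hΓ.1 h)) (hL j)
  rwa [Scheme.Hom.support_ker, (Γ j).ι.isClosedEmbedding.isClosed_range.closure_eq] at h

theorem list_row (i : Fin n) : ∑ j, (Models.mult R X (Γ j) : ℤ) * ArSurf.inter R X (L j) (Γ i) = 0 := by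
  have hC := fun j => isEffCartier_ker hreg (Γ j) (isFibGen_of_list hΓ j)
  have h := dId_fibre (Γ i)
  rw [specialFibreIdeal_eq hreg hΓ,
    dId_prod (Γ i) Finset.univ fun j _ => SurfAmpleLib.isEffCartier_pow' (hC j) _] at h
  simp only [dId_pow (Γ i) (hC _)] at h
  simp only [fun j => inter_eq_neg (Γ i) (hC j) (hL j), mul_neg, Finset.sum_neg_distrib, h, neg_zero]

theorem list_col (j : Fin n) : ∑ i, (Models.mult R X (Γ i) : ℤ) * ArSurf.inter R X (L j) (Γ i) = 0 := by
  refine Eq.trans (Finset.sum_congr rfl fun i _ => ?_) (list_row hreg hΓ hL j)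
  rw [list_symm hreg hΓ hL i j]

omit hL in
theorem mult_pos (i : Fin n) : 0 < Models.mult R X (Γ i) := by
  obtain ⟨ϖ, hϖ'⟩ := IsDiscreteValuationRing.exists_irreducible R
  have hϖ : maximalIdeal R = Ideal.span {ϖ} := hϖ'.maximalIdeal_eq
  haveI : IsLocallyNoetherian X.left := LocallyOfFiniteType.isLocallyNoetherian X.hom
  set x := Models.genPtOf R X (Γ i)
  haveI := hreg x
  haveI := RegUFDLib.uniqueFactorizationMonoid (X.left.presheaf.stalk x)
  have h1 : ringKrullDim (X.left.presheaf.stalk x) = 1 :=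
    dim_stalk_eq_one (genPt_over (Γ i)) (isFibGen_of_list hΓ i)
  haveI : IsDiscreteValuationRing (X.left.presheaf.stalk x) :=
    WeilExtLib.isDiscreteValuationRing_of_regular _ h1.le fun hf => by
      rw [ringKrullDim_eq_zero_of_isField hf] at h1
      exact zero_ne_one h1
  obtain ⟨t, ht⟩ := IsDiscreteValuationRing.exists_irreducible (X.left.presheaf.stalk x)
  obtain ⟨e, u, hu⟩ := IsDiscreteValuationRing.eq_unit_mul_pow_irreducible (pi_ne_zero x hϖ) ht
  have he : Ideal.span {Models.stalkHom R X x ϖ} = maximalIdeal (X.left.presheaf.stalk x) ^ e := by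
    rw [hu, Ideal.span_singleton_mul_left_unit u.isUnit, ht.maximalIdeal_eq, Ideal.span_singleton_pow]
  rw [mult_eq hreg (Γ i) (isFibGen_of_list hΓ i) hϖ he]
  refine Nat.pos_of_ne_zero fun h0 => ?_
  have hx : EquidimLib.stalkPt x ⟨maximalIdeal _, inferInstance⟩ = x := Scheme.fromSpecStalk_closedPoint
  have hm := (pi_mem_iff x ⟨maximalIdeal _, inferInstance⟩ hϖ).2 (hx.symm ▸ genPt_over (Γ i))
  rw [h0, pow_zero, Ideal.one_eq_top, Ideal.span_singleton_eq_top] at he
  exact hm he

theorem list_quad_nonpos (a : Fin n → ℤ) :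
    ∑ q : Fin n × Fin n, a q.1 * a q.2 * ArSurf.inter R X (L q.2) (Γ q.1) ≤ 0 :=
  quad_nonpos (fun i j => ArSurf.inter R X (L j) (Γ i)) (fun i => (Models.mult R X (Γ i) : ℤ))
    (list_symm hreg hΓ hL) (fun i => by exact_mod_cast mult_pos hreg hΓ i)
    (fun i => by simpa only [mul_comm] using list_row hreg hΓ hL i)
    (fun _ _ hij => (list_offdiag hreg hΓ hL hij).1) a

end VertIntLib
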