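import Groth.Agent.VertIntLib.Prod
import Groth.Agent.FibDimLib.Semicont
import Groth.Agent.FibDimLib.SchemeInv
import Groth.Agent.FibDimLib.Pure
import Groth.Agent.DevissLib.ClosedImm

/-!
# Every closed fibre has a list of components
-/

set_option autoImplicit false
set_option backward.isDefEq.respectTransparency false
set_option linter.style.haveILetI false
set_option linter.unusedSectionVars false
set_option maxHeartbeats 800000
universe u
open AlgebraicGeometry CategoryTheory CategoryTheory.Limits TopologicalSpace Topology IsLocalRing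

noncomputable section

namespace VertIntLib

variable {R : Type u} [CommRing R] [IsDomain R] [IsDiscreteValuationRing R]
  {X : Over (Spec (CommRingCat.of R))} [IsIntegral X.left] [Flat X.hom] [LocallyOfFiniteType X.hom]

theorem isPreirreducible_of_image {α β : Type*} [TopologicalSpace α] [TopologicalSpace β] {f : α → β}
    (hf : IsInducing f) {S : Set α} (h : IsPreirreducible (f '' S)) : IsPreirreducible S := by
  intro u v hu hv ⟨x, hxS, hxu⟩ ⟨y, hyS, hyv⟩
  obtain ⟨U, hU, rfl⟩ := hf.isOpen_iff.1 hu
  obtain ⟨V, hV, rfl⟩ := hf.isOpen_iff.1 hv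
  obtain ⟨_, ⟨w, hw, rfl⟩, hwU, hwV⟩ := h U V hU hV ⟨f x, ⟨x, hxS, rfl⟩, hxu⟩ ⟨f y, ⟨y, hyS, rfl⟩, hyv⟩
  exact ⟨w, hw, hwU, hwV⟩

omit [IsIntegral X.left] [Flat X.hom] [LocallyOfFiniteType X.hom] in
theorem closure_mem_fibreComponents {z : X.left} (hz : X.hom z = closedPoint R) (hg : IsFibGen z) :
    closure ({z} : Set X.left) ∈ Models.fibreComponents R X := by
  refine ⟨⟨isIrreducible_singleton.closure,
    closure_minimal (Set.singleton_subset_iff.2 hz) (Models.isClosed_specialFibreSet R X)⟩, ?_⟩
  rintro S ⟨hS, hSs⟩ hle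
  have hScl : closure S ⊆ Models.specialFibreSet R X :=
    closure_minimal hSs (Models.isClosed_specialFibreSet R X)
  obtain ⟨w, hw⟩ := QuasiSober.sober hS.closure isClosed_closure
  have hwz : w ⤳ z := hw.specializes (subset_closure (hle (subset_closure rfl)))
  have : w = z := hg w (hScl hw.mem) hwz
  calc S ⊆ closure S := subset_closure
    _ = closure {w} := hw.def.symm
    _ = closure {z} := by rw [this]

omit [IsIntegral X.left] [Flat X.hom] [LocallyOfFiniteType X.hom] in
theorem exists_of_mem_fibreComponents {Z : Set X.left} (hZ : Z ∈ Models.fibreComponents R X) :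
    ∃ z, X.hom z = closedPoint R ∧ IsFibGen z ∧ Z = closure {z} := by
  obtain ⟨hZi, hZs⟩ := hZ.1
  have hcl : closure Z ⊆ Z := hZ.2 ⟨hZi.closure, closure_minimal hZs (Models.isClosed_specialFibreSet R X)⟩
    subset_closure
  have hZc : IsClosed Z := closure_subset_iff_isClosed.1 hcl
  obtain ⟨z, hz⟩ := QuasiSober.sober hZi hZc
  refine ⟨z, hZs hz.mem, fun z' hz' hsp => ?_, hz.def.symm⟩
  have hle : Z ≤ closure ({z'} : Set X.left) := by
    rw [← hz.def]
    exact closure_minimal (Set.singleton_subset_iff.2 (specializes_iff_mem_closure.1 hsp)) isClosed_closure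
  have h := hZ.2 ⟨isIrreducible_singleton.closure,
    closure_minimal (Set.singleton_subset_iff.2 hz') (Models.isClosed_specialFibreSet R X)⟩ hle
  exact ((hz.specializes (h (subset_closure rfl))).antisymm hsp).eq.symm

/-- The dimension of a component of the closed fibre is the relative dimension. -/
theorem dim_closure {z : X.left} (hz : X.hom z = closedPoint R) (hg : IsFibGen z) :
    topologicalKrullDim (closure ({z} : Set X.left)) = FlatMor.fibreDimAt X.hom (genericPoint X.left) := by
  haveI : IsLocallyNoetherian X.left := LocallyOfFiniteType.isLocallyNoetherian X.hom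
  rw [FibDimLib.fibreDimAt_eq_of_flat X.hom ((genericPoint_spec X.left).specializes trivial : _ ⤳ z)
    fun w hw hzw => hg w (hw.trans hz) (specializes_iff_mem_closure.2 hzw)]
  set s : ↥(Spec (CommRingCat.of R)) := closedPoint R
  obtain ⟨w, hw⟩ : z ∈ Set.range (X.hom.fiberι s) := (X.hom.range_fiberι s).ge hz
  haveI : LocallyOfFiniteType (X.hom.fiberToSpecResidueField s) := UOpenLib.lft_fiberToSpec X.hom s
  have hgen : closure ({w} : Set (X.hom.fiber s)) ∈ irreducibleComponents (X.hom.fiber s : Type u) := by
    refine ⟨isIrreducible_singleton.closure, fun S hS hle => ?_⟩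
    obtain ⟨v, hv⟩ := QuasiSober.sober hS.closure isClosed_closure
    have hvw : v ⤳ w := hv.specializes (subset_closure (hle (subset_closure rfl)))
    have hv' : X.hom.fiberι s v = z := hg _ ((X.hom.range_fiberι s).le ⟨v, rfl⟩)
      (hw ▸ hvw.map (X.hom.fiberι s).continuous)
    obtain rfl : v = w := (X.hom.fiberι s).isEmbedding.injective (hv'.trans hw.symm)
    exact subset_closure.trans hv.def.ge
  rw [← hw, FibDimLib.fibreDimAt_fiberι, FibDimLib.localDim_eq_of_generic (X.hom.fiberToSpecResidueField s) hgen]
  have hemb := (X.hom.fiberι s).isEmbedding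
  have himage : X.hom.fiberι s '' closure ({w} : Set (X.hom.fiber s)) = closure ({X.hom.fiberι s w} : Set X.left) := by
    rw [hemb.isInducing.closure_eq_preimage_closure_image, Set.image_singleton, Set.image_preimage_eq_iff,
      X.hom.range_fiberι]
    refine closure_minimal (Set.singleton_subset_iff.2 ((X.hom.range_fiberι s).le ⟨w, rfl⟩)) ?_
    exact Models.isClosed_specialFibreSet R X
  rw [← himage]
  exact ((hemb.homeomorphImage _).isHomeomorph.topologicalKrullDim_eq).symm

/-- A component of the closed fibre is a vertical prime divisor. -/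
theorem exists_vertComp (Γ₀ : ArSurf.VertComp R X) (h₀ : IsFibGen (Models.genPtOf R X Γ₀))
    {z : X.left} (hz : X.hom z = closedPoint R) (hg : IsFibGen z) :
    ∃ Γ : ArSurf.VertComp R X, Set.range Γ.ι.base = closure ({z} : Set X.left) := by
  set Z : Closeds X.left := ⟨closure {z}, isClosed_closure⟩
  set I := Scheme.IdealSheafData.vanishingIdeal Z
  have hrange : Set.range I.subschemeι.base = closure ({z} : Set X.left) :=
    I.range_subschemeι.trans (by rw [Scheme.IdealSheafData.coe_support_vanishingIdeal]; rfl)
  haveI : IsReduced I.subscheme := DevissLib.isReduced_vanishingIdeal' Z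
  haveI : IrreducibleSpace I.subscheme := by
    have hpre : IsPreirreducible (Set.univ : Set I.subscheme) := by
      refine isPreirreducible_of_image I.subschemeι.isEmbedding.isInducing ?_
      rw [Set.image_univ, hrange]
      exact isIrreducible_singleton.closure.isPreirreducible
    obtain ⟨c, -⟩ := hrange.ge (subset_closure (Set.mem_singleton z))
    exact { toPreirreducibleSpace := ⟨hpre⟩, toNonempty := ⟨c⟩ }
  haveI : IsIntegral I.subscheme := isIntegral_of_irreducibleSpace_of_isReduced _
  set e := Spec.map (CommRingCat.ofHom (residue R))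
  haveI : IsClosedImmersion e := IsClosedImmersion.spec_of_surjective _ residue_surjective
  have hsub : closure ({z} : Set X.left) ⊆ Models.specialFibreSet R X :=
    closure_minimal (Set.singleton_subset_iff.2 hz) (Models.isClosed_specialFibreSet R X)
  have hker : e.ker ≤ (I.subschemeι ≫ X.hom).ker := by
    rw [Scheme.Hom.ker_comp, Scheme.IdealSheafData.le_map_iff_comap_le, Scheme.IdealSheafData.ker_subschemeι,
      ← Scheme.IdealSheafData.le_support_iff_le_vanishingIdeal]
    intro x hx
    rw [Scheme.IdealSheafData.support_comap]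
    show X.hom x ∈ e.ker.support
    rw [show X.hom x = closedPoint R from hsub hx, ← SetLike.mem_coe, Scheme.Hom.support_ker]
    exact subset_closure ⟨closedPoint (ResidueField R), IsLocalRing.comap_closedPoint (residue R)⟩
  have hdim : topologicalKrullDim I.subscheme = 1 := by
    have h1 : topologicalKrullDim (closure ({Models.genPtOf R X Γ₀} : Set X.left)) = 1 := by
      rw [Models.genPtOf, ← Set.image_singleton, Γ₀.ι.isClosedEmbedding.closure_image_eq,
        (genericPoint_spec Γ₀.curve.left).def, Set.image_univ,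
        ← Γ₀.ι.isEmbedding.toHomeomorph.isHomeomorph.topologicalKrullDim_eq]
      exact Γ₀.dim_eq
    rw [dim_closure (genPt_over Γ₀) h₀, ← dim_closure hz hg, ← hrange] at h1
    rw [I.subschemeι.isEmbedding.toHomeomorph.isHomeomorph.topologicalKrullDim_eq, h1]
  exact ⟨⟨Over.mk (IsClosedImmersion.lift e (I.subschemeι ≫ X.hom) hker), I.subschemeι, inferInstance,
    ‹IsIntegral I.subscheme›, hdim, (IsClosedImmersion.lift_fac e (I.subschemeι ≫ X.hom) hker).symm⟩, hrange⟩

/-- A list of all components exists as soon as one of them is a vertical prime divisor. -/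
theorem exists_componentList (Γ₀ : ArSurf.VertComp R X) (h₀ : IsFibGen (Models.genPtOf R X Γ₀))
    [CompactSpace X.left] :
    ∃ (n : ℕ) (Γ : Fin n → ArSurf.VertComp R X), Models.IsComponentList R X Γ := by
  haveI : IsLocallyNoetherian X.left := LocallyOfFiniteType.isLocallyNoetherian X.hom
  haveI : IsNoetherian X.left := ⟨⟩
  have hfin : (Models.fibreComponents R X).Finite := by
    refine Set.Finite.of_injOn (f := fun Z : Set X.left => (Subtype.val ⁻¹' Z : Set (Models.specialFibreSet R X)))
      (fun Z hZ => ?_) (fun Z hZ Z' hZ' h => ?_) (NoetherianSpace.finite_irreducibleComponents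
        (α := Models.specialFibreSet R X))
    · refine ⟨⟨?_, isPreirreducible_of_image IsInducing.subtypeVal (by
        rw [Subtype.image_preimage_coe, Set.inter_eq_right.2 hZ.1.2]; exact hZ.1.1.isPreirreducible)⟩, fun S hS hle x hx => ?_⟩
      · obtain ⟨x, hx⟩ := hZ.1.1.nonempty
        exact ⟨⟨x, hZ.1.2 hx⟩, hx⟩
      · exact hZ.2 ⟨hS.image _ continuous_subtype_val.continuousOn, Subtype.coe_image_subset _ _⟩
          (fun y hy => ⟨⟨y, hZ.1.2 hy⟩, hle hy, rfl⟩) ⟨x, hx, rfl⟩
    · have h2 := congrArg (fun S => Subtype.val '' S) h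
      simp only [Subtype.image_preimage_coe, Set.inter_eq_right.2 hZ.1.2, Set.inter_eq_right.2 hZ'.1.2] at h2
      exact h2
  have hall : ∀ Z : Models.fibreComponents R X, ∃ Γ : ArSurf.VertComp R X, Set.range Γ.ι.base = Z.1 := fun Z => by
    obtain ⟨z, hz, hg, hZ⟩ := exists_of_mem_fibreComponents Z.2
    rw [hZ]
    exact exists_vertComp Γ₀ h₀ hz hg
  choose Γf hΓf using hall
  haveI := hfin.to_subtype
  obtain ⟨n, ⟨e⟩⟩ := Finite.exists_equiv_fin (Models.fibreComponents R X)
  refine ⟨n, fun i => Γf (e.symm i), ?_, ?_⟩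
  · intro i j h
    simp only [hΓf] at h
    exact e.symm.injective (Subtype.ext h)
  · ext Z
    simp only [Set.mem_range, hΓf]
    exact ⟨fun ⟨i, hi⟩ => hi ▸ (e.symm i).2, fun hZ => ⟨e ⟨Z, hZ⟩, by rw [e.symm_apply_apply]⟩⟩

end VertIntLib
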