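import Groth.Agent.VertIntLib.Matrix
import Groth.Agent.VertIntLib.Exists
import Groth.Agent.MiscFlat6.InvDual

/-!
# Negative semi-definiteness of the intersection pairing
-/

set_option autoImplicit false
set_option backward.isDefEq.respectTransparency false
set_option linter.style.haveILetI false
set_option linter.unusedSectionVars false
set_option maxHeartbeats 800000
universe u
open AlgebraicGeometry CategoryTheory CategoryTheory.Limits TopologicalSpace Topology IsLocalRing

noncomputable section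

namespace VertIntLib

variable {R : Type u} [CommRing R] [IsDomain R] [IsDiscreteValuationRing R]
  {X : Over (Spec (CommRingCat.of R))} [IsIntegral X.left] [Flat X.hom] [IsProper X.hom]
  (hreg : ∀ x : X.left, IsRegularLocalRing (X.left.presheaf.stalk x))

/-- Ideals of vertical curves are determined by generic points. -/
theorem ker_eq_of_genPt (Γ Γ' : ArSurf.VertComp R X)
    (h : Models.genPtOf R X Γ = Models.genPtOf R X Γ') : Γ.ι.ker = Γ'.ι.ker := by
  refine le_antisymm (SDivLib.le_of_stalk fun x => ?_) (SDivLib.le_of_stalk fun x => ?_) <;>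
  · by_cases hx : Models.genPtOf R X Γ ⤳ x
    · have hx' : Models.genPtOf R X Γ' ⤳ x := h ▸ hx
      rw [stalkIdeal_ker_eq Γ hx, stalkIdeal_ker_eq Γ' hx']
      simp only [h, le_refl]
    · rw [stalkIdeal_ker_top Γ hx, stalkIdeal_ker_top Γ' (h ▸ hx)]

theorem exists_inverse {W : Scheme.{u}} {M : W.Modules} (hM : PicF.IsInvertible M) :
    ∃ L : W.Modules, ClSub.IsInverseOf L M := by
  obtain ⟨e⟩ := MiscFlat6.nonempty_dualIso hM
  exact ⟨_, ⟨HilbPolyLib.swapIso _ _ ≪≫ e⟩⟩

include hreg in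
/-- Vertical curves with the same image have the same intersection numbers with a list of components. -/
theorem inter_eq_of_genPt {n : ℕ} {Δ : Fin n → ArSurf.VertComp R X} (hΔ : Models.IsComponentList R X Δ)
    {L : Fin n → X.left.Modules} (hL : ∀ j, ClSub.IsInverseOf (L j) (ClSub.idealMod (Δ j).ι.ker))
    (Γ : ArSurf.VertComp R X) (hg : IsFibGen (Models.genPtOf R X Γ)) {s : Fin n}
    (hs : Models.genPtOf R X Γ = Models.genPtOf R X (Δ s)) (k : Fin n) :
    ArSurf.inter R X (L k) Γ = ArSurf.inter R X (L k) (Δ s) := by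
  classical
  have hgD := fun i => isFibGen_of_list hΔ i
  have hC := fun i => isEffCartier_ker hreg (Δ i) (hgD i)
  have hk : Γ.ι.ker = (Δ s).ι.ker := ker_eq_of_genPt Γ (Δ s) hs
  have hCΓ : BlowUp.IsEffCartierIdeal Γ.ι.ker := hk ▸ hC s
  have hLΓ : ClSub.IsInverseOf (L s) (ClSub.idealMod Γ.ι.ker) := hk ▸ hL s
  have hoff : ∀ k, k ≠ s → ArSurf.inter R X (L k) Γ = ArSurf.inter R X (L k) (Δ s) := fun k hks => by
    have hne : Set.range Γ.ι.base ≠ Set.range (Δ k).ι.base := by
      rw [range_eq_closure, range_eq_closure, hs]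
      intro h
      exact hks (hΔ.1 ((range_eq_closure _).trans (h.symm.trans (range_eq_closure _).symm)))
    rw [inter_symm hCΓ (hC k) (genPt_not_mem_of_isFibGen Γ hg _ hne)
      (genPt_not_mem_of_isFibGen (Δ k) (hgD k) _ hne.symm) hLΓ (hL k),
      list_symm hreg hΔ hL s k]
  by_cases hks : k = s
  · subst hks
    have h := dId_fibre Γ
    rw [specialFibreIdeal_eq hreg hΔ,
      dId_prod Γ Finset.univ fun j _ => SurfAmpleLib.isEffCartier_pow' (hC j) _] at h
    simp only [dId_pow Γ (hC _)] at h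
    have h1 : ∑ j, (Models.mult R X (Δ j) : ℤ) * ArSurf.inter R X (L j) Γ = 0 := by
      simp only [fun j => inter_eq_neg Γ (hC j) (hL j), mul_neg, Finset.sum_neg_distrib, h, neg_zero]
    have h2 := list_row hreg hΔ hL k
    rw [← Finset.add_sum_erase _ _ (Finset.mem_univ k)] at h1 h2
    rw [Finset.sum_congr rfl fun j hj => by rw [hoff j (Finset.ne_of_mem_erase hj)]] at h1
    have hm : (Models.mult R X (Δ k) : ℤ) ≠ 0 := by exact_mod_cast (mult_pos hreg hΔ k).ne'
    exact mul_left_cancel₀ hm (by linarith)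
  · exact hoff k hks

include hreg in
/-- The intersection form on any family of components is negative semi-definite. -/
theorem quad_nonpos_family [CompactSpace X.left] {r : ℕ} (Γ : Fin r → ArSurf.VertComp R X)
    (hg : ∀ i, IsFibGen (Models.genPtOf R X (Γ i)))
    (L : Fin r → X.left.Modules) (hL : ∀ j, ClSub.IsInverseOf (L j) (ClSub.idealMod (Γ j).ι.ker)) (a : Fin r → ℤ) :
    ∑ q : Fin r × Fin r, a q.1 * a q.2 * ArSurf.inter R X (L q.2) (Γ q.1) ≤ 0 := by
  classical
  rcases r with _ | r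
  · simp
  obtain ⟨n, Δ, hΔ⟩ := exists_componentList (Γ 0) (hg 0)
  have hgD := fun i => isFibGen_of_list hΔ i
  have hC := fun i => isEffCartier_ker hreg (Δ i) (hgD i)
  choose L' hL' using fun k => exists_inverse (IntMultLib.isInvertible_idealMod _ (hC k))
  choose σ hσ using fun i => eq_genPt_of_isFibGen hΔ (genPt_over (Γ i)) (hg i)
  have key : ∀ i j, ArSurf.inter R X (L j) (Γ i) = ArSurf.inter R X (L' (σ j)) (Δ (σ i)) := fun i j => by
    have hk := ker_eq_of_genPt (Γ j) (Δ (σ j)) (hσ j).symm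
    rw [← inter_eq_of_genPt hreg hΔ hL' (Γ i) (hg i) (hσ i).symm (σ j),
      inter_eq_neg (Γ i) (hk ▸ hC (σ j)) (hL j), inter_eq_neg (Γ i) (hC (σ j)) (hL' (σ j)), hk]
  simp only [key]
  set b : Fin n → ℤ := fun k => ∑ i, if σ i = k then a i else 0
  refine le_trans (le_of_eq ?_) (list_quad_nonpos hreg hΔ hL' b)
  rw [Fintype.sum_prod_type, Fintype.sum_prod_type]
  have hrow : ∀ (i : Fin (r + 1)), ∑ j, a j * ArSurf.inter R X (L' (σ j)) (Δ (σ i)) =
      ∑ l, b l * ArSurf.inter R X (L' l) (Δ (σ i)) := fun i => by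
    simp only [b, Finset.sum_mul]
    rw [Finset.sum_comm]
    exact Finset.sum_congr rfl fun j _ => by simp [ite_mul]
  calc ∑ i, ∑ j, a i * a j * ArSurf.inter R X (L' (σ j)) (Δ (σ i))
      = ∑ i, a i * ∑ l, b l * ArSurf.inter R X (L' l) (Δ (σ i)) := by
        refine Finset.sum_congr rfl fun i _ => ?_
        rw [← hrow, Finset.mul_sum]
        exact Finset.sum_congr rfl fun j _ => mul_assoc _ _ _
    _ = ∑ k, b k * ∑ l, b l * ArSurf.inter R X (L' l) (Δ k) := by
        simp only [b, Finset.sum_mul]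
        rw [Finset.sum_comm (γ := Fin n)]
        exact Finset.sum_congr rfl fun i _ => by simp [ite_mul]
    _ = _ := by
        refine Finset.sum_congr rfl fun k _ => ?_
        rw [Finset.mul_sum]
        exact Finset.sum_congr rfl fun l _ => (mul_assoc _ _ _).symm

omit [Flat X.hom] [IsIntegral X.left] [IsProper X.hom] in
/-- In a connected fibre no set of components is separated from the others. -/
theorem exists_meet (hconn : _root_.IsPreconnected (Models.specialFibreSet R X)) {r : ℕ}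
    (Γ : Fin r → ArSurf.VertComp R X)
    (hcov : ∀ x ∈ Models.specialFibreSet R X, ∃ i, x ∈ Set.range (Γ i).ι.base)
    (I : Finset (Fin r)) (h1 : I.Nonempty) (h2 : I ≠ Finset.univ) :
    ∃ i ∈ I, ∃ j ∉ I, ¬ Disjoint (Set.range (Γ i).ι.base) (Set.range (Γ j).ι.base) := by
  classical
  by_contra! h
  obtain ⟨i₀, hi₀⟩ := h1
  obtain ⟨j₀, hj₀⟩ : ∃ j, j ∉ I := by
    by_contra! hh
    exact h2 (Finset.eq_univ_iff_forall.2 hh)
  have hcl : ∀ S : Finset (Fin r), IsClosed (⋃ i ∈ (S : Set (Fin r)), Set.range (Γ i).ι.base) := fun S =>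
    S.finite_toSet.isClosed_biUnion fun i _ => (Γ i).ι.isClosedEmbedding.isClosed_range
  have hsub : ∀ i, Set.range (Γ i).ι.base ⊆ Models.specialFibreSet R X := by
    rintro i _ ⟨c, rfl⟩
    exact over_closedPoint (Γ i) c
  obtain ⟨x, -, hxI, hxJ⟩ := isPreconnected_closed_iff.1 hconn _ _ (hcl I) (hcl Iᶜ)
    (fun x hx => by
      obtain ⟨i, hi⟩ := hcov x hx
      by_cases hiI : i ∈ I
      · exact Or.inl (Set.mem_biUnion (by exact_mod_cast hiI) hi)
      · exact Or.inr (Set.mem_biUnion (show i ∈ (↑(Iᶜ) : Set (Fin r)) by simpa using hiI) hi))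
    ⟨_, hsub i₀ ⟨genericPoint _, rfl⟩, Set.mem_biUnion (by exact_mod_cast hi₀) ⟨genericPoint _, rfl⟩⟩
    ⟨_, hsub j₀ ⟨genericPoint _, rfl⟩,
      Set.mem_biUnion (show j₀ ∈ (↑(Iᶜ) : Set (Fin r)) by simpa using hj₀) ⟨genericPoint _, rfl⟩⟩
  simp only [Set.mem_iUnion, Finset.mem_coe, Finset.mem_compl] at hxI hxJ
  obtain ⟨i, hi, hxi⟩ := hxI
  obtain ⟨j, hj, hxj⟩ := hxJ
  exact Set.disjoint_left.1 (h i hi j hj) hxi hxj

include hreg in
/-- The kernel of the intersection matrix of a connected fibre. -/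
theorem list_kernel {n : ℕ} {Γ : Fin n → ArSurf.VertComp R X} (hΓ : Models.IsComponentList R X Γ)
    {L : Fin n → X.left.Modules} (hL : ∀ j, ClSub.IsInverseOf (L j) (ClSub.idealMod (Γ j).ι.ker))
    (hconn : _root_.IsPreconnected (Models.specialFibreSet R X))
    (hcov : ∀ x ∈ Models.specialFibreSet R X, ∃ i, x ∈ Set.range (Γ i).ι.base) (a : Fin n → ℤ) :
    ∑ q : Fin n × Fin n, a q.1 * a q.2 * ArSurf.inter R X (L q.2) (Γ q.1) = 0 ↔
      ∃ c : ℚ, ∀ i, (a i : ℚ) = c * (Models.mult R X (Γ i) : ℚ) := by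
  have h := quad_eq_zero_iff (fun i j => ArSurf.inter R X (L j) (Γ i)) (fun i => (Models.mult R X (Γ i) : ℤ))
    (list_symm hreg hΓ hL) (fun i => by exact_mod_cast mult_pos hreg hΓ i)
    (fun i => by simpa only [mul_comm] using list_row hreg hΓ hL i)
    (fun _ _ hij => (list_offdiag hreg hΓ hL hij).1)
    (fun I h1 h2 => by
      obtain ⟨i, hi, j, hj, hd⟩ := exists_meet hconn Γ hcov I h1 h2
      exact ⟨i, hi, j, hj, fun h0 => hd ((list_offdiag hreg hΓ hL (fun (e : i = j) => hj (e ▸ hi))).2.1 h0)⟩) a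
  simpa only [Int.cast_natCast] using h

omit [Flat X.hom] [IsIntegral X.left] [IsProper X.hom] in
/-- Every point of the fibre lies on a listed component. -/
theorem cover_of_list {n : ℕ} {Γ : Fin n → ArSurf.VertComp R X} (hΓ : Models.IsComponentList R X Γ)
    (x : X.left) (hx : x ∈ Models.specialFibreSet R X) : ∃ i, x ∈ Set.range (Γ i).ι.base := by
  have hi : IsIrreducible ({⟨x, hx⟩} : Set (Models.specialFibreSet R X)) := isIrreducible_singleton
  obtain ⟨T, hT, hxT, hmax⟩ := exists_preirreducible _ hi.isPreirreducible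
  have hxT' : x ∈ Subtype.val '' T := ⟨_, hxT rfl, rfl⟩
  have hmem : Subtype.val '' T ∈ Models.fibreComponents R X := by
    refine ⟨⟨⟨⟨x, hxT'⟩, hT.image _ continuous_subtype_val.continuousOn⟩, Subtype.coe_image_subset _ _⟩, ?_⟩
    rintro S ⟨hS, hSs⟩ hle
    have hpre : IsPreirreducible (Subtype.val ⁻¹' S : Set (Models.specialFibreSet R X)) :=
      isPreirreducible_of_image IsInducing.subtypeVal (by
        rw [Subtype.image_preimage_coe, Set.inter_eq_right.2 hSs]; exact hS.isPreirreducible)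
    have hT' := hmax _ hpre fun t ht => hle ⟨t, ht, rfl⟩
    intro y hy
    exact ⟨⟨y, hSs hy⟩, hT'.le hy, rfl⟩
  rw [← hΓ.2] at hmem
  obtain ⟨i, hi'⟩ := hmem
  exact ⟨i, hi'.ge hxT'⟩

end VertIntLib
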