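import Groth.Agent.VertIntLib.Div
import Groth.Agent.VertIntLib.Kernel
import Groth.Agent.AmpleFinGenLib.Divisor
import Groth.Agent.CubeConsLib.IsoCls
import Groth.Agent.JacAlbLib.Points
import Groth.Agent.S3250
import Groth.Agent.Formal2VBLib.Dual
import Groth.Agent.NefBigVanLib.Main
import Groth.Agent.SteinLib.App
import Groth.Agent.CurvLib.Line

/-!
# Line bundles trivial on the generic fibre
-/

set_option autoImplicit false
set_option backward.isDefEq.respectTransparency false
set_option linter.style.haveILetI false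
set_option linter.unusedSectionVars false
set_option maxHeartbeats 1000000
universe u
open AlgebraicGeometry CategoryTheory CategoryTheory.Limits TopologicalSpace IsLocalRing Opposite
open CubeConsLib (cl IsoCls cl_tensor cl_eq_iff cl_eq_one_iff pull)
open AmpleLib (GenOn res)
open TwistLib (genSet)

noncomputable section

namespace VertIntLib

/-! ### Classes of modules -/

section Classes

variable {W : Scheme.{u}}

theorem cl_tensorPow (L : W.Modules) : ∀ k : ℕ, cl (CohB1.tensorPow L k) = cl L ^ k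
  | 0 => (pow_zero _).symm
  | k + 1 => by rw [CohB1.tensorPow, cl_tensor, cl_tensorPow L k, pow_succ]

theorem cl_tensorList : ∀ l : List W.Modules, cl (FGA.tensorList l) = (l.map cl).prod
  | [] => rfl
  | M :: l => by rw [FGA.tensorList, cl_tensor, cl_tensorList l, List.map_cons, List.prod_cons]

theorem cl_multiTwist {n : ℕ} (L : Fin n → W.Modules) (a : Fin n → ℕ) :
    cl (FGA.multiTwist L a) = ∏ i, cl (L i) ^ a i := by
  rw [FGA.multiTwist, cl_tensorList, List.map_map, Fin.prod_univ_def]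
  exact congrArg List.prod (List.map_congr_left fun i _ => cl_tensorPow _ _)

/-- The class of an ideal sheaf. -/
def idc (I : W.IdealSheafData) : IsoCls W := cl (ClSub.idealMod I)

theorem idc_mul {I J : W.IdealSheafData} (hI : BlowUp.IsEffCartierIdeal I) (hJ : BlowUp.IsEffCartierIdeal J) :
    idc (I * J) = idc I * idc J := by
  obtain ⟨e⟩ := SurfNumLib.nonempty_idealMod_mul hI hJ
  rw [idc, idc, idc, ← cl_tensor]
  exact cl_eq_iff.2 ⟨e.symm⟩

theorem idc_one [IsIntegral W] : idc (1 : W.IdealSheafData) = 1 :=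
  cl_eq_one_iff.2 NefBigVanLib.nonempty_idealMod_top

theorem idc_pow [IsIntegral W] {I : W.IdealSheafData} (hI : BlowUp.IsEffCartierIdeal I) :
    ∀ k : ℕ, idc (I ^ k) = idc I ^ k
  | 0 => by rw [pow_zero, pow_zero, idc_one]
  | k + 1 => by rw [pow_succ, pow_succ, idc_mul (SurfAmpleLib.isEffCartier_pow' hI k) hI, idc_pow hI k]

theorem idc_prod [IsIntegral W] {ι : Type*} (s : Finset ι) {I : ι → W.IdealSheafData}
    (hI : ∀ i ∈ s, BlowUp.IsEffCartierIdeal (I i)) : idc (∏ i ∈ s, I i) = ∏ i ∈ s, idc (I i) := by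
  classical
  induction s using Finset.induction with
  | empty => rw [Finset.prod_empty, Finset.prod_empty, idc_one]
  | insert a s ha ih =>
    rw [Finset.prod_insert ha, Finset.prod_insert ha,
      idc_mul (hI a (Finset.mem_insert_self a s))
        (SurfAmpleLib.isEffCartier_finprod s fun i hi => hI i (Finset.mem_insert_of_mem hi)),
      ih fun i hi => hI i (Finset.mem_insert_of_mem hi)]

/-- A trivialised ideal is generated by a global function. -/
theorem exists_global_gen {I : W.IdealSheafData} (h : idc I = 1) :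
    ∃ φ : Γ(W, ⊤), ∀ x : W, IntMult.stalkIdeal I x = Ideal.span {W.presheaf.germ ⊤ x trivial φ} := by
  obtain ⟨e⟩ := cl_eq_one_iff.1 h
  let one : Γ(Coh.structureModule W, ⊤) := (1 : Γ(W, ⊤))
  set σ : Γ(ClSub.idealMod I, ⊤) := e.inv.app ⊤ one
  have hσ : GenOn (ClSub.idealMod I) σ :=
    DescAppLib.genOn_app_iso e.symm DescAppLib.one_genOn'
  refine ⟨(ClSub.idealModι I).app ⊤ σ, fun x => ?_⟩
  obtain ⟨V, hV, hxV, -⟩ := exists_isAffineOpen_mem_and_subset (X := W) (x := x) (U := ⊤) trivial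
  set φV : Γ(W, V) := W.presheaf.map (homOfLE le_top).op ((ClSub.idealModι I).app ⊤ σ)
  have hφV : φV = (ClSub.idealModι I).app V (res (ClSub.idealMod I) le_top σ) :=
    (QCohLib.app_map (ClSub.idealModι I) (homOfLE le_top) σ).symm
  have hI : I.ideal ⟨V, hV⟩ = Ideal.span {φV} := by
    refine le_antisymm (fun a ha => ?_) ((Ideal.span_singleton_le_iff_mem _).2 ?_)
    · obtain ⟨t, ht⟩ := IntMultLib.exists_section I ⟨V, hV⟩ ha
      obtain ⟨r, hr⟩ := (hσ V le_top).2 t
      refine Ideal.mem_span_singleton'.2 ⟨r, ?_⟩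
      rw [hφV, ← ht, ← hr]
      exact (IntMultLib.idealModι_smul I V r _).symm
    · rw [hφV]
      exact (IntMultLib.toSubscheme_app_eq_zero_iff I ⟨V, hV⟩ _).mp
        (ConcreteCategory.congr_hom (congrArg (fun φ : ClSub.idealMod I ⟶ ClSub.quotMod I => φ.app V)
          (kernel.condition (ClSub.toSubscheme I))) _)
  rw [SDivLib.stalkIdeal_eq I ⟨V, hV⟩ hxV, hI, Ideal.map_span, Set.image_singleton]
  exact congrArg (fun t => Ideal.span {t}) (TopCat.Presheaf.germ_res_apply W.presheaf _ x hxV _)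

end Classes

/-! ### Generators -/

section Gen

variable {W : Scheme.{u}} {M : W.Modules}

theorem genOn_of_restrict {V : Scheme.{u}} (g : V ⟶ W) [IsOpenImmersion g] {O : W.Opens} (hO : O = g ''ᵁ ⊤)
    {σ : Γ(M.restrict g, ⊤)} (h : GenOn (M.restrict g) σ) :
    GenOn M (M.presheaf.map (eqToHom hO).op σ : Γ(M, O)) := by
  subst hO
  rw [show M.presheaf.map (eqToHom rfl).op σ = (σ : Γ(M, g ''ᵁ ⊤)) from congr($(M.presheaf.map_id _) σ)]
  intro P hP
  have hP' : g ''ᵁ (g ⁻¹ᵁ P) = P := by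
    rw [Scheme.Hom.image_preimage_eq_opensRange_inf, inf_eq_right]
    exact hP.trans fun z ⟨y, _, hy⟩ => hy ▸ ⟨y, rfl⟩
  obtain ⟨P', rfl⟩ : ∃ P', g ''ᵁ P' = P := ⟨_, hP'⟩
  have hb := (h P' le_top).comp (ConcreteCategory.bijective_of_isIso (g.appIso P').hom)
  refine (congrArg Function.Bijective (funext fun r => ?_)).mp hb
  exact congrArg (fun c : Γ(W, g ''ᵁ P') =>
    c • (res M hP (σ : Γ(M, g ''ᵁ ⊤)) : Γ(M, g ''ᵁ P'))) (Iso.hom_inv_id_apply (g.appIso P') r)

theorem genOn_smul_unit {O : W.Opens} {r : Γ(W, O)} (hr : IsUnit r) {σ : Γ(M, O)} (h : GenOn M σ) :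
    GenOn M (r • σ) := by
  intro P hP
  obtain ⟨u, hu⟩ := hr.map (W.presheaf.map (homOfLE hP).op).hom
  have e : (fun c : Γ(W, P) => c • res M hP (r • σ)) =
      (fun c : Γ(W, P) => c • res M hP σ) ∘ fun c => c * ↑u := funext fun c => by
    show c • res M hP (r • σ) = (c * ↑u) • res M hP σ
    rw [AmpleLib.res_smul, smul_smul, hu]
  rw [e]
  exact (h P hP).comp ⟨fun p q hpq => (Units.mul_left_inj u).1 hpq, fun q => ⟨q * ↑u⁻¹, by simp⟩⟩

theorem genSet_of_res (hM : PicF.IsInvertible M) {O : W.Opens} (t : Γ(M, ⊤))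
    (h : GenOn M (res M (le_top : O ≤ ⊤) t)) {x : W} (hx : x ∈ O) : x ∈ genSet hM t :=
  (AmpleLib.genAt_res (le_top : O ≤ ⊤) t hx).1 (h.genAt hx)

theorem not_genAt_zero {hM : PicF.IsInvertible M} {x : W} (h : x ∈ genSet hM (0 : Γ(M, ⊤))) : False := by
  have hb : AmpleLib.GenAt M (0 : Γ(M, ⊤)) (show x ∈ (⊤ : W.Opens) from trivial) := h
  have h1 := @hb.1 (0 : W.presheaf.stalk x) 1 (by simp only [map_zero, smul_zero])
  exact zero_ne_one h1

end Gen

/-! ### The vertical part of the Picard group -/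

theorem eta_or_closedPoint {R : Type u} [CommRing R] [IsDomain R] [IsDiscreteValuationRing R]
    (q : PrimeSpectrum R) : q = (RelMinSmLib.eta (R := R) : PrimeSpectrum R) ∨ q = closedPoint R := by
  rcases eq_or_ne q.asIdeal ⊥ with h | h
  · refine Or.inl (PrimeSpectrum.ext (h.trans (eq_comm.1 (eq_bot_iff.2 fun r hr => ?_))))
    exact (PrimeSpectrum.le_iff_specializes (RelMinSmLib.eta (R := R)) ⟨⊥, Ideal.isPrime_bot⟩).2
      (RelMinSmLib.eta_specializes (R := R) (⟨⊥, Ideal.isPrime_bot⟩ : PrimeSpectrum R)) hr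
  · exact Or.inr (PrimeSpectrum.ext (IsLocalRing.eq_maximalIdeal (q.isPrime.isMaximal h)))

variable {R : Type u} [CommRing R] [IsDomain R] [IsDiscreteValuationRing R]
  {X : Over (Spec (CommRingCat.of R))} [IsIntegral X.left] [Flat X.hom] [IsProper X.hom]
  {n : ℕ} {Γ : Fin n → ArSurf.VertComp R X} {L : Fin n → X.left.Modules}
  (hL : ∀ j, ClSub.IsInverseOf (L j) (ClSub.idealMod (Γ j).ι.ker))

/-- The class of `L i` as a unit. -/
def uL (i : Fin n) : (IsoCls X.left)ˣ :=
  ⟨cl (L i), idc (Γ i).ι.ker, by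
    rw [idc, ← cl_tensor]; exact cl_eq_one_iff.2 (hL i), by
    rw [idc, mul_comm, ← cl_tensor]; exact cl_eq_one_iff.2 (hL i)⟩

/-- The class of `O(Σ d_i Γ_i)`. -/
def vt (d : Fin n → ℤ) : (IsoCls X.left)ˣ := ∏ i, uL hL i ^ d i

theorem vt_add (d e : Fin n → ℤ) : vt hL (d + e) = vt hL d * vt hL e := by
  simp only [vt, Pi.add_apply, zpow_add, Finset.prod_mul_distrib]

theorem vt_zero : vt hL 0 = 1 := by simp [vt]

theorem vt_sub (d e : Fin n → ℤ) : vt hL (d - e) = vt hL d / vt hL e := by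
  rw [eq_div_iff_mul_eq', ← vt_add, sub_add_cancel]

theorem vt_smul (k : ℤ) (d : Fin n → ℤ) : vt hL (k • d) = vt hL d ^ k := by
  rw [vt, vt, ← Finset.prod_zpow]
  exact Finset.prod_congr rfl fun i _ => by rw [Pi.smul_apply, smul_eq_mul, mul_comm, zpow_mul]

theorem val_vt_natCast (a : Fin n → ℕ) : ((vt hL fun i => (a i : ℤ)) : IsoCls X.left) = cl (FGA.multiTwist L a) := by
  rw [cl_multiTwist, vt, Units.coe_prod]
  exact Finset.prod_congr rfl fun i _ => by rw [zpow_natCast, Units.val_pow_eq_pow_val]; rfl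

variable (hreg : ∀ x : X.left, IsRegularLocalRing (X.left.presheaf.stalk x))
  (hΓ : Models.IsComponentList R X Γ)

include hreg hΓ in
theorem inv_vt_natCast (a : Fin n → ℕ) :
    ((vt hL fun i => (a i : ℤ))⁻¹ : (IsoCls X.left)ˣ) = (idc (∏ i, (Γ i).ι.ker ^ a i) : IsoCls X.left) := by
  have hC := fun i => isEffCartier_ker hreg (Γ i) (isFibGen_of_list hΓ i)
  rw [idc_prod _ fun i _ => SurfAmpleLib.isEffCartier_pow' (hC i) _, vt, ← Finset.prod_inv_distrib,
    Units.coe_prod]
  exact Finset.prod_congr rfl fun i _ => by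
    rw [← inv_zpow, zpow_natCast, Units.val_pow_eq_pow_val, idc_pow (hC i)]; rfl

include hreg hΓ in
/-- The class of the closed fibre is trivial. -/
theorem vt_mult : vt hL (fun i => (Models.mult R X (Γ i) : ℤ)) = 1 := by
  rw [← inv_eq_one, ← Units.val_eq_one, inv_vt_natCast hL hreg hΓ, ← specialFibreIdeal_eq hreg hΓ]
  obtain ⟨ϖ, hϖ'⟩ := IsDiscreteValuationRing.exists_irreducible R
  have hϖ : maximalIdeal R = Ideal.span {ϖ} := hϖ'.maximalIdeal_eq
  haveI : IsIntegral (Spec (CommRingCat.of R)) := inferInstance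
  set K := Curv2.idealSheaf R (maximalIdeal R)
  set T : (Spec (CommRingCat.of R)).affineOpens := ⟨⊤, isAffineOpen_top _⟩
  set a : Γ(Spec (CommRingCat.of R), T) := (Scheme.ΓSpecIso (CommRingCat.of R)).inv.hom ϖ
  have hKa : K.ideal T = Ideal.span {a} := by
    simp only [K, T, a, Curv2.idealSheaf, Scheme.IdealSheafData.ofIdealTop_ideal, homOfLE_refl, op_id,
      CategoryTheory.Functor.map_id, CommRingCat.hom_id, hϖ, Ideal.map_span, Set.image_singleton]
    rfl
  have ha : a ∈ nonZeroDivisors Γ(Spec (CommRingCat.of R), T) := by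
    refine mem_nonZeroDivisors_of_ne_zero fun h => hϖ'.ne_zero ?_
    exact (Scheme.ΓSpecIso (CommRingCat.of R)).commRingCatIsoToRingEquiv.symm.injective
      (h.trans (map_zero _).symm)
  have hK : BlowUp.IsEffCartierIdeal K := fun x => ⟨T, trivial, a, ha, hKa⟩
  obtain ⟨σ, hσ⟩ := IntMultLib.exists_section K T (hKa ▸ Ideal.mem_span_singleton_self a : a ∈ K.ideal T)
  haveI := AmpleLib.isIso_unitHom σ (SurfNumLib.genOn_of_generator K T ha hKa hσ)
  have hF : BlowUp.IsEffCartierIdeal (K.comap X.hom) := BlowUpLib.isEffCartier_comap_of_flat X.hom hK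
  obtain ⟨e'⟩ := SymSqLib.nonempty_pb_ideal X.hom K (IntMultLib.isInvertible_idealMod K hK)
    (IntMultLib.isInvertible_idealMod _ hF)
  exact cl_eq_one_iff.2 ⟨e'.symm ≪≫ (Scheme.Modules.pullback X.hom).mapIso
    (asIso (QCohLib.unitHom (ClSub.idealMod K) σ)).symm ≪≫ KFlatLib.pullUnitIso X.hom⟩

/-- Every global function is a constant. -/
theorem global_functions {C : Scheme.{u}} {f : C ⟶ Spec (CommRingCat.of (FractionRing R))}
    (hH0 : IsIso f.appTop) {g : C ⟶ X.left}
    (hg : IsPullback g f X.hom (Spec.map (CommRingCat.ofHom (algebraMap R (FractionRing R)))))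
    (φ : Γ(X.left, ⊤)) : ∃ r : R, gρ X.hom r = φ := by
  let j := Spec.map (CommRingCat.ofHom (algebraMap R (FractionRing R)))
  haveI : IsOpenImmersion j := Groth.Agent.S3250.isOpenImmersion_genPt R
  haveI : IsOpenImmersion g := MorphismProperty.of_isPullback hg.flip ‹IsOpenImmersion j›
  haveI : Nonempty C := by
    by_contra hne
    rw [not_nonempty_iff] at hne
    haveI : Subsingleton Γ(C, ⊤) := by
      rw [show (⊤ : C.Opens) = ⊥ from TopologicalSpace.Opens.ext (Set.ext fun z => hne.elim z)]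
      exact CommRingCat.subsingleton_of_isTerminal C.sheaf.isTerminalOfEmpty
    haveI : Subsingleton Γ(Spec (CommRingCat.of (FractionRing R)), ⊤) :=
      (asIso f.appTop).commRingCatIsoToRingEquiv.toEquiv.subsingleton
    haveI : Subsingleton (FractionRing R) :=
      (Scheme.ΓSpecIso (CommRingCat.of (FractionRing R))).commRingCatIsoToRingEquiv.symm.toEquiv.subsingleton
    exact false_of_nontrivial_of_subsingleton (FractionRing R)
  haveI : IsLocallyNoetherian X.left := LocallyOfFiniteType.isLocallyNoetherian X.hom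
  haveI : CompactSpace X.left := QuasiCompact.compactSpace_of_compactSpace X.hom
  haveI : IsNoetherian X.left := ⟨⟩
  haveI : QuasiCompact g := inferInstance
  haveI : IsDominant g := by
    rw [isDominant_iff, DenseRange]
    exact g.isOpenEmbedding.isOpen_range.dense (Set.range_nonempty _)
  haveI : IsSchemeTheoreticallyDominant g := .of_isDominant _
  let eK : FractionRing R ≃+* Γ(C, ⊤) :=
    ((Scheme.ΓSpecIso (CommRingCat.of (FractionRing R))).symm ≪≫ asIso f.appTop).commRingCatIsoToRingEquiv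
  have hcomp : ∀ r : R, g.appTop.hom (gρ X.hom r) = eK (algebraMap R (FractionRing R) r) := fun r => by
    rw [← gρ_comp, hg.w]
    show gρ (f ≫ j) r = _
    rw [gρ_comp]
    refine congrArg f.appTop.hom ?_
    show j.appTop.hom ((Scheme.ΓSpecIso (CommRingCat.of R)).inv.hom r) = _
    rw [← CommRingCat.comp_apply, ← Scheme.ΓSpecIso_inv_naturality]
    rfl
  have hint : (X.hom.app (⊤ : (Spec (CommRingCat.of R)).Opens)).hom.IsIntegral :=
    SteinLib.isIntegral_app X.hom (isAffineOpen_top _)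
  have hρ : (gρ X.hom).IsIntegral :=
    RingHom.IsIntegral.trans _ _
      (RingHom.IsIntegral.of_finite (RingHom.Finite.of_surjective _
        (Scheme.ΓSpecIso (CommRingCat.of R)).commRingCatIsoToRingEquiv.symm.surjective)) hint
  obtain ⟨P, hPm, hP0⟩ := hρ φ
  have hK : _root_.IsIntegral R (eK.symm (g.appTop.hom φ)) := by
    refine ⟨P, hPm, ?_⟩
    have h2 := congrArg (fun t => eK.symm (g.appTop.hom t)) hP0
    simp only [map_zero] at h2
    rw [Polynomial.eval₂_eq_sum_range] at h2 ⊢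
    simp only [map_sum, map_mul, map_pow, hcomp, RingEquiv.symm_apply_apply] at h2
    exact h2
  obtain ⟨r, hr⟩ := IsIntegrallyClosed.algebraMap_eq_of_integral hK
  refine ⟨r, g.app_injective ⊤ ?_⟩
  show g.appTop.hom (gρ X.hom r) = g.appTop.hom φ
  rw [hcomp, hr, RingEquiv.apply_symm_apply]

include hreg hΓ in
/-- `O(Σ d_i Γ_i)` is trivial exactly when `d` is a multiple of the multiplicities. -/
theorem vt_eq_one_iff (hR : ∀ φ : Γ(X.left, ⊤), ∃ r : R, gρ X.hom r = φ) (d : Fin n → ℤ) :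
    vt hL d = 1 ↔ ∃ c : ℤ, ∀ i, d i = c * (Models.mult R X (Γ i) : ℤ) := by
  classical
  constructor
  · intro hd
    set m : Fin n → ℤ := fun i => (Models.mult R X (Γ i) : ℤ)
    set N : ℤ := ∑ i, |d i|
    have hm : ∀ i, 1 ≤ m i := fun i => by
      have := mult_pos hreg hΓ i
      show (1 : ℤ) ≤ (Models.mult R X (Γ i) : ℤ)
      omega
    have hnonneg : ∀ i, 0 ≤ (d + N • m) i := fun i => by
      have h1 : |d i| ≤ N := Finset.single_le_sum (fun j _ => abs_nonneg (d j)) (Finset.mem_univ i)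
      have h2 := hm i
      have h3 := neg_abs_le (d i)
      simp only [Pi.add_apply, Pi.smul_apply, smul_eq_mul]
      nlinarith [abs_nonneg (d i)]
    set a : Fin n → ℕ := fun i => ((d + N • m) i).toNat
    have ha : (fun i => (a i : ℤ)) = d + N • m := funext fun i => Int.toNat_of_nonneg (hnonneg i)
    have h1 : vt hL (fun i => (a i : ℤ)) = 1 := by
      rw [ha, vt_add, vt_smul, hd, show vt hL m = 1 from vt_mult hL hreg hΓ, one_zpow, one_mul]
    have h2 : idc (∏ i, (Γ i).ι.ker ^ a i) = 1 := by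
      rw [← inv_vt_natCast hL hreg hΓ, h1, inv_one, Units.val_one]
    obtain ⟨φ, hφ⟩ := exists_global_gen h2
    obtain ⟨r, hr⟩ := hR φ
    obtain ⟨ϖ, hϖ'⟩ := IsDiscreteValuationRing.exists_irreducible R
    have hϖ : maximalIdeal R = Ideal.span {ϖ} := hϖ'.maximalIdeal_eq
    haveI : IsLocallyNoetherian X.left := LocallyOfFiniteType.isLocallyNoetherian X.hom
    have hC := fun i => isEffCartier_ker hreg (Γ i) (isFibGen_of_list hΓ i)
    have hst : ∀ x, IntMult.stalkIdeal (∏ i, (Γ i).ι.ker ^ a i) x = Ideal.span {Models.stalkHom R X x r} :=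
      fun x => by rw [hφ x, ← hr]; rfl
    have hr0 : r ≠ 0 := fun h0 => by
      obtain ⟨t, ht, htx⟩ := DivDescLib.exists_gen
        (SurfAmpleLib.isEffCartier_finprod Finset.univ fun i _ => SurfAmpleLib.isEffCartier_pow' (hC i) (a i))
        (genericPoint X.left)
      rw [hst, h0, map_zero, Ideal.span_singleton_eq_span_singleton] at htx
      exact nonZeroDivisors.ne_zero ht ((associated_zero_iff_eq_zero t).1 htx.symm)
    obtain ⟨k, w, hw⟩ := IsDiscreteValuationRing.eq_unit_mul_pow_irreducible hr0 hϖ'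
    have hI : ∏ i, (Γ i).ι.ker ^ a i = ∏ i, (Γ i).ι.ker ^ (k * Models.mult R X (Γ i)) := by
      refine DivDescLib.eq_of_stalk fun x => ?_
      rw [show ∏ i, (Γ i).ι.ker ^ (k * Models.mult R X (Γ i)) = Models.specialFibreIdeal R X ^ k by
        rw [specialFibreIdeal_eq hreg hΓ, ← Finset.prod_pow]
        exact Finset.prod_congr rfl fun i _ => by rw [← pow_mul, mul_comm],
        hst, SDivLib.stalkIdeal_pow, stalkIdeal_fibre x hϖ, Ideal.span_singleton_pow, hw, map_mul, map_pow,
        Ideal.span_singleton_mul_left_unit (w.isUnit.map _)]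
    have hak := prod_ker_injective hreg hΓ hI
    refine ⟨(k : ℤ) - N, fun i => ?_⟩
    have h3 := congrFun ha i
    rw [hak] at h3
    simp only [Pi.add_apply, Pi.smul_apply, smul_eq_mul, m] at h3
    push_cast at h3
    linarith
  · rintro ⟨c, hc⟩
    rw [show d = c • fun i => (Models.mult R X (Γ i) : ℤ) from funext fun i => (hc i).trans (smul_eq_mul _ _).symm,
      vt_smul, vt_mult hL hreg hΓ, one_zpow]

include hreg hΓ in
/-- **A module trivial on the generic fibre is vertical.** -/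
theorem exists_vt {C : Scheme.{u}} {f : C ⟶ Spec (CommRingCat.of (FractionRing R))} [IsIntegral C] {g : C ⟶ X.left}
    (hg : IsPullback g f X.hom (Spec.map (CommRingCat.ofHom (algebraMap R (FractionRing R)))))
    {M : X.left.Modules} (hM : PicF.IsInvertible M)
    (htriv : Nonempty ((Scheme.Modules.pullback g).obj M ≅ Coh.structureModule C)) :
    ∃ a : Fin n → ℕ, ∃ b : Fin n → ℕ, (vt hL fun i => (a i : ℤ) - (b i : ℤ) : IsoCls X.left) = cl M := by
  obtain ⟨ϖ, hϖ'⟩ := IsDiscreteValuationRing.exists_irreducible R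
  have hϖ : maximalIdeal R = Ideal.span {ϖ} := hϖ'.maximalIdeal_eq
  let j := Spec.map (CommRingCat.ofHom (algebraMap R (FractionRing R)))
  haveI : IsOpenImmersion j := Groth.Agent.S3250.isOpenImmersion_genPt R
  haveI : IsOpenImmersion g := MorphismProperty.of_isPullback hg.flip ‹IsOpenImmersion j›
  haveI : IsLocallyNoetherian X.left := LocallyOfFiniteType.isLocallyNoetherian X.hom
  haveI : CompactSpace X.left := QuasiCompact.compactSpace_of_compactSpace X.hom
  haveI : IsNoetherian X.left := ⟨⟩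
  have hrange : ∀ x : X.left, x ∈ Set.range g ↔ X.hom x ≠ closedPoint R := by
    intro x
    have hr : Set.range g = {y | X.hom y = RelMinSmLib.eta (R := R)} := by
      rw [← hg.isoPullback_hom_fst, Scheme.Hom.comp_base, TopCat.coe_comp,
        Set.range_comp, Set.range_eq_univ.2 hg.isoPullback.hom.surjective, Set.image_univ,
        Scheme.Pullback.range_fst, RelMinSmLib.range_genPt]
      rfl
    rw [hr]
    refine ⟨fun h hc => eta_ne_closedPoint (h.symm.trans hc), fun hne => ?_⟩
    exact (eta_or_closedPoint (R := R) (X.hom x)).resolve_right hne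
  set π : Γ(X.left, ⊤) := gρ X.hom ϖ
  have hmem : ∀ x : X.left, x ∈ X.left.basicOpen π ↔ x ∈ Set.range g := fun x => by
    rw [hrange, Scheme.mem_basicOpen_top]
    show IsUnit (Models.stalkHom R X x ϖ) ↔ _
    rw [← not_iff_not, not_not, ← mem_nonunits_iff, ← IsLocalRing.mem_maximalIdeal,
      pi_mem_iff x ⟨maximalIdeal _, inferInstance⟩ hϖ,
      show EquidimLib.stalkPt x ⟨maximalIdeal _, inferInstance⟩ = x from Scheme.fromSpecStalk_closedPoint]
  have himg : g ''ᵁ ⊤ = X.left.basicOpen π := TopologicalSpace.Opens.ext (Set.ext fun x => by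
    rw [Scheme.Hom.coe_image]
    show x ∈ g '' Set.univ ↔ x ∈ X.left.basicOpen π
    rw [Set.image_univ, hmem])
  obtain ⟨e⟩ := htriv
  let er : M.restrict g ≅ Coh.structureModule C := (Scheme.Modules.restrictFunctorIsoPullback g).app M ≪≫ e
  let one : Γ(Coh.structureModule C, ⊤) := (1 : Γ(C, ⊤))
  set s₀ : Γ(M.restrict g, ⊤) := er.inv.app ⊤ one
  have hs₀ : GenOn (M.restrict g) s₀ := DescAppLib.genOn_app_iso er.symm DescAppLib.one_genOn'
  haveI : Coh.IsQCoh M := (CurvLib.isCoh_of_isInvertible hM).1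
  have hUg : ⊤ ⊓ X.left.basicOpen π = g ''ᵁ ⊤ := by rw [himg]; exact top_inf_eq _
  set s₁ : Γ(M, ⊤ ⊓ X.left.basicOpen π) := M.presheaf.map (eqToHom hUg).op s₀ with hs₁def
  have hs₁ : GenOn M s₁ := genOn_of_restrict g hUg hs₀
  obtain ⟨k, t, ht⟩ := QCohLib.exists_pow_smul_extend (M := M) (W := ⊤) isQuasiSeparated_univ π ⊤
    isCompact_univ le_rfl s₁
  set U : X.left.Opens := ⊤ ⊓ X.left.basicOpen π
  have hgen : ∀ x ∈ U, x ∈ genSet hM t := fun x hx => by
    have hu : IsUnit ((X.left.presheaf.map (homOfLE (le_top : U ≤ ⊤)).op π) ^ k) :=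
      (RingedSpace.isUnit_of_isUnit_germ _ _ _ fun y hy => by
        rw [TopCat.Presheaf.germ_res_apply]
        exact (Scheme.mem_basicOpen_top _ _ y).1 hy.2).pow k
    have hg2 : GenOn M (res M (le_top : U ≤ ⊤) t) := by
      rw [show res M (le_top : U ≤ ⊤) t = _ from ht]
      exact genOn_smul_unit hu hs₁
    exact genSet_of_res hM t hg2 hx
  set σ := QCohLib.unitHom M t
  have hσt : σ.app ⊤ (1 : Γ(X.left, ⊤)) = t := by
    rw [QCohLib.unitHom_app, one_smul]
    exact congr($(M.presheaf.map_id _) t)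
  have hξ : genericPoint X.left ∈ U := by
    refine ⟨trivial, (hmem _).2 ?_⟩
    obtain ⟨c⟩ : Nonempty C := inferInstance
    exact ((genericPoint_spec X.left).specializes trivial : _ ⤳ g c).mem_open g.isOpenEmbedding.isOpen_range ⟨c, rfl⟩
  haveI : Mono σ := by
    refine CurvLib.mono_of_ne_zero CurvLib.isInvertible_structureModule
      hM fun h0 => ?_
    have ht0 : t = 0 := by rw [← hσt, h0]; rfl
    exact not_genAt_zero (ht0 ▸ hgen _ hξ)
  set I := PicF2.zeroScheme M σ
  have hI : BlowUp.IsEffCartierIdeal I := AmpleFinGenLib.isEffCartier_zeroScheme hM σ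
  have hsupp : ∀ x ∈ I.support, X.hom x = closedPoint R := fun x hx => by
    by_contra hne
    have hxU : x ∈ U := ⟨trivial, (hmem x).2 ((hrange x).2 hne)⟩
    refine (AmpleFinGenLib.notMem_support_zeroScheme hM σ x).2 ?_ hx
    rw [AmpleThLib.genLocus_hom hM, hσt]
    exact hgen x hxU
  obtain ⟨a, ha⟩ := exists_eq_prod hreg hΓ hI hsupp
  refine ⟨a, 0, ?_⟩
  obtain ⟨θ⟩ := AmpleFinGenLib.idealMod_tensor_iso hM σ
  have hθ : idc I * cl M = 1 := by rw [idc, ← cl_tensor]; exact cl_eq_one_iff.2 ⟨θ⟩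
  rw [show I = _ from ha, ← inv_vt_natCast hL hreg hΓ] at hθ
  simp only [Pi.zero_apply, Nat.cast_zero, sub_zero]
  rw [← Units.eq_inv_mul_iff_mul_eq] at hθ
  rw [hθ, inv_inv, mul_one]

end VertIntLib
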