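import Groth.Prelude.Def_ArSurf
import Groth.Prelude.Def_ModelsG
import Groth.Agent.RelMinSmLib.Main
import Groth.Agent.S1684
import Groth.Agent.RegUFDLib.Basic
import Groth.Agent.SDivLib.Stalk
import Groth.Agent.DivDescLib.Local
import Groth.Agent.IntMultRegLib.Geom
import Groth.Agent.DiagTorLib.DiagProd
import Groth.Agent.EquidimLib.DimBetween
import Groth.Agent.CycDivLib.Pull
import Groth.Agent.WeilExtLib.Codim

/-!
# Vertical prime divisors on a regular scheme flat over a discrete valuation ring

Their ideals are effective Cartier and the ideal of the closed fibre is the product of their powers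
with the multiplicities as exponents.
-/

set_option autoImplicit false
set_option backward.isDefEq.respectTransparency false
set_option linter.style.haveILetI false
set_option linter.unusedSectionVars false
set_option maxHeartbeats 800000
universe u
open AlgebraicGeometry CategoryTheory CategoryTheory.Limits TopologicalSpace Topology IsLocalRing
open EquidimLib (stalkPt)
open CycDivLib (primeOf stalkPt_primeOf)

noncomputable section

namespace VertIntLib

variable {R : Type u} [CommRing R] [IsDomain R] [IsDiscreteValuationRing R]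
  {X : Over (Spec (CommRingCat.of R))}

theorem over_closedPoint (Γ : ArSurf.VertComp R X) (c : Γ.curve.left) :
    X.hom (Γ.ι c) = closedPoint R := by
  show (Γ.ι ≫ X.hom) c = _
  rw [Γ.w, Scheme.Hom.comp_apply]
  haveI : Subsingleton ↥(Spec (CommRingCat.of (ResidueField R))) :=
    inferInstanceAs (Subsingleton (PrimeSpectrum (ResidueField R)))
  rw [Subsingleton.elim (Γ.curve.hom c) (closedPoint (ResidueField R))]
  apply PrimeSpectrum.ext
  show (maximalIdeal (ResidueField R)).comap (residue R) = maximalIdeal R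
  rw [maximalIdeal_eq_bot]
  exact ker_residue

theorem genPt_over (Γ : ArSurf.VertComp R X) : X.hom (Models.genPtOf R X Γ) = closedPoint R :=
  over_closedPoint Γ _

theorem eta_ne_closedPoint : RelMinSmLib.eta (R := R) ≠ closedPoint R := fun h => by
  have h2 : (RelMinSmLib.eta (R := R) : PrimeSpectrum R).asIdeal = ⊥ := by
    refine eq_bot_iff.2 fun r hr => ?_
    have h1 := RelMinSmLib.eta_specializes (R := R) (⟨⊥, Ideal.isPrime_bot⟩ : PrimeSpectrum R)
    exact (PrimeSpectrum.le_iff_specializes (RelMinSmLib.eta (R := R)) _).2 h1 hr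
  exact IsDiscreteValuationRing.not_a_field R ((congrArg PrimeSpectrum.asIdeal h).symm.trans h2)

theorem irreducibleSpace_image (Γ : ArSurf.VertComp R X) :
    IrreducibleSpace ↥Γ.ι.ker.subscheme := by
  haveI : IsIso Γ.ι.toImage := inferInstance
  exact Γ.ι.toImage.homeomorph.surjective.irreducibleSpace Γ.ι.toImage.continuous

variable [IsIntegral X.left] [Flat X.hom]

theorem genericPoint_over : X.hom (genericPoint X.left) = RelMinSmLib.eta (R := R) := by
  obtain ⟨x', -, hx'⟩ := Flat.generalizingMap X.hom (RelMinSmLib.eta_specializes (X.hom (genericPoint X.left)))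
  exact ((hx' ▸ ((genericPoint_spec X.left).specializes trivial).map X.hom.continuous).antisymm
    (RelMinSmLib.eta_specializes _)).eq

omit [IsIntegral X.left] [Flat X.hom] in
/-- The stalk of the ideal of the closed fibre. -/
theorem stalkIdeal_fibre (x : X.left) {ϖ : R} (hϖ : maximalIdeal R = Ideal.span {ϖ}) :
    IntMult.stalkIdeal (Models.specialFibreIdeal R X) x = Ideal.span {Models.stalkHom R X x ϖ} := by
  rw [Models.specialFibreIdeal, DivDescLib.stalkIdeal_comap,
    SDivLib.stalkIdeal_eq _ ⟨⊤, isAffineOpen_top _⟩ trivial, Curv2.idealSheaf, Scheme.IdealSheafData.ofIdealTop_ideal]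
  simp only [homOfLE_refl, op_id, CategoryTheory.Functor.map_id, CommRingCat.hom_id, Ideal.map_id, hϖ,
    Ideal.map_span, Set.image_singleton]
  congr 2
  show (X.hom.stalkMap x) ((Spec (CommRingCat.of R)).presheaf.germ ⊤ (X.hom x) trivial _) = _
  rw [Scheme.Hom.germ_stalkMap_apply]
  rfl

omit [IsIntegral X.left] [Flat X.hom] in
theorem mem_support_fibre_iff (x : X.left) :
    x ∈ (Models.specialFibreIdeal R X).support ↔ X.hom x = closedPoint R := by
  rw [Models.specialFibreIdeal, Scheme.IdealSheafData.support_comap]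
  show X.hom x ∈ ((Curv2.idealSheaf R (maximalIdeal R)).support : Set (Spec (CommRingCat.of R))) ↔ _
  rw [Curv2.idealSheaf, Scheme.IdealSheafData.coe_support_ofIdealTop, Spec_zeroLocus]
  constructor
  · intro h
    apply PrimeSpectrum.ext
    refine ((maximalIdeal.isMaximal R).eq_of_le (X.hom x : PrimeSpectrum R).isPrime.ne_top fun r hr => ?_).symm
    exact h (Ideal.mem_map_of_mem _ hr)
  · intro h
    rw [h]
    intro r hr
    show r ∈ maximalIdeal R
    have hle : (maximalIdeal R).map (Scheme.ΓSpecIso (CommRingCat.of R)).inv.hom ≤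
        (maximalIdeal R).comap (Scheme.ΓSpecIso (CommRingCat.of R)).hom.hom := by
      rw [Ideal.map_le_iff_le_comap]
      intro s hs
      show (Scheme.ΓSpecIso (CommRingCat.of R)).hom ((Scheme.ΓSpecIso (CommRingCat.of R)).inv s) ∈ maximalIdeal R
      rw [Iso.inv_hom_id_apply (Scheme.ΓSpecIso (CommRingCat.of R))]
      exact hs
    have := hle hr
    rw [Ideal.mem_comap] at this
    rwa [Iso.inv_hom_id_apply (Scheme.ΓSpecIso (CommRingCat.of R))] at this

omit [IsIntegral X.left] [Flat X.hom] in
theorem pi_mem_iff (x : X.left) (q : PrimeSpectrum (X.left.presheaf.stalk x)) {ϖ : R}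
    (hϖ : maximalIdeal R = Ideal.span {ϖ}) :
    Models.stalkHom R X x ϖ ∈ q.asIdeal ↔ X.hom (stalkPt x q) = closedPoint R := by
  rw [← mem_support_fibre_iff, IntMultRegLib.stalkPt_mem_support_iff, stalkIdeal_fibre x hϖ,
    Ideal.span_singleton_le_iff_mem]

theorem pi_ne_zero (x : X.left) {ϖ : R} (hϖ : maximalIdeal R = Ideal.span {ϖ}) :
    Models.stalkHom R X x ϖ ≠ 0 := fun h => by
  haveI : IsDomain (X.left.presheaf.stalk x) := inferInstance
  obtain ⟨q, hq⟩ := EquidimLib.exists_stalkPt ((genericPoint_spec X.left).specializes trivial : genericPoint X.left ⤳ x)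
  have h1 := (pi_mem_iff x q hϖ).1 (by rw [h]; exact zero_mem _)
  rw [hq, genericPoint_over] at h1
  exact eta_ne_closedPoint h1

/-- Points of the closed fibre without proper generization there. -/
def IsFibGen (z : X.left) : Prop :=
  ∀ z', X.hom z' = closedPoint R → z' ⤳ z → z' = z

omit [Flat X.hom] in
theorem isFibGen_of_dim (hd : topologicalKrullDim X.left ≤ 2) [Flat X.hom] (Γ : ArSurf.VertComp R X) :
    IsFibGen (Models.genPtOf R X Γ) := fun z hz hzγ => by
  by_contra hne
  obtain ⟨c, hc⟩ : ∃ c, c ≠ genericPoint Γ.curve.left := by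
    by_contra! hall
    haveI : Subsingleton ↥Γ.curve.left := ⟨fun a b => (hall a).trans (hall b).symm⟩
    have := topologicalKrullDim_zero_of_discreteTopology (X := ↥Γ.curve.left)
    rw [Γ.dim_eq] at this
    exact (not_le.2 zero_lt_one) this
  refine RelMinSmLib.not_four hd ((genericPoint_spec X.left).specializes trivial) hzγ
    (((genericPoint_spec Γ.curve.left).specializes trivial).map Γ.ι.continuous : _ ⤳ Γ.ι c) ?_ hne ?_
  · intro h
    rw [← h, genericPoint_over] at hz
    exact eta_ne_closedPoint hz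
  · exact fun h => hc (Γ.ι.isEmbedding.injective h).symm

omit [IsIntegral X.left] [Flat X.hom] in
theorem isFibGen_of_list {n : ℕ} {Γ : Fin n → ArSurf.VertComp R X} (hΓ : Models.IsComponentList R X Γ)
    (i : Fin n) : IsFibGen (Models.genPtOf R X (Γ i)) := fun z hz hzγ => by
  have hmem : Set.range (Γ i).ι.base ∈ Models.fibreComponents R X := hΓ.2 ▸ ⟨i, rfl⟩
  have hirr : IsIrreducible (closure ({z} : Set X.left)) := isIrreducible_singleton.closure
  have hsub : closure ({z} : Set X.left) ⊆ Models.specialFibreSet R X :=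
    closure_minimal (Set.singleton_subset_iff.2 hz) (Models.isClosed_specialFibreSet R X)
  have hrange : Set.range (Γ i).ι.base = closure {Models.genPtOf R X (Γ i)} := by
    rw [Models.genPtOf, ← Set.image_singleton, (Γ i).ι.isClosedEmbedding.closure_image_eq,
      (genericPoint_spec (Γ i).curve.left).def, Set.image_univ]
  have hle : Set.range (Γ i).ι.base ≤ closure ({z} : Set X.left) := by
    rw [hrange]
    exact closure_minimal (Set.singleton_subset_iff.2 (specializes_iff_mem_closure.1 hzγ)) isClosed_closure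
  have h := hmem.2 ⟨hirr, hsub⟩ hle
  rw [hrange] at h
  exact ((specializes_iff_mem_closure.2 (h (subset_closure rfl))).antisymm hzγ).eq.symm

variable [LocallyOfFiniteType X.hom]

theorem dim_stalk_eq_one {z : X.left} (hz : X.hom z = closedPoint R) (hg : IsFibGen z) :
    ringKrullDim (X.left.presheaf.stalk z) = 1 := by
  haveI : IsLocallyNoetherian X.left := LocallyOfFiniteType.isLocallyNoetherian X.hom
  haveI : IsDomain (X.left.presheaf.stalk z) := inferInstance
  obtain ⟨ϖ, hϖ⟩ := IsDiscreteValuationRing.exists_irreducible R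
  have hϖ' : maximalIdeal R = Ideal.span {ϖ} := hϖ.maximalIdeal_eq
  set A := X.left.presheaf.stalk z
  have hclosed : stalkPt z (closedPoint A) = z := Scheme.fromSpecStalk_closedPoint
  have hm : maximalIdeal A ∈ (Ideal.span {Models.stalkHom R X z ϖ}).minimalPrimes := by
    refine ⟨⟨(maximalIdeal.isMaximal A).isPrime, (Ideal.span_singleton_le_iff_mem _).2
      ((pi_mem_iff z (closedPoint A) hϖ').2 (by rw [hclosed]; exact hz))⟩, ?_⟩
    rintro q ⟨hq, hπ⟩ _
    have h1 := (pi_mem_iff z ⟨q, hq⟩ hϖ').1 (hπ (Ideal.mem_span_singleton_self _))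
    have h2 : stalkPt z ⟨q, hq⟩ = z := hg _ h1 (EquidimLib.stalkPt_specializes z _)
    have h3 : (⟨q, hq⟩ : PrimeSpectrum A) = closedPoint A :=
      EquidimLib.stalkPt_injective z (h2.trans hclosed.symm)
    exact (congrArg PrimeSpectrum.asIdeal h3).ge
  have hle : (maximalIdeal A).height ≤ 1 := Ideal.height_le_one_of_isPrincipal_of_mem_minimalPrimes _ _ hm
  have hne : (maximalIdeal A).height ≠ 0 := fun h0 => by
    have hb : maximalIdeal A ∈ minimalPrimes A := Ideal.height_eq_zero_iff.1 h0
    rw [IsDomain.minimalPrimes_eq_singleton_bot] at hb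
    rw [Set.mem_singleton_iff.1 hb] at hm
    exact pi_ne_zero z hϖ' (Ideal.mem_bot.1 ((Ideal.span_singleton_le_iff_mem _).1 hm.1.2))
  rw [← IsLocalRing.maximalIdeal_height_eq_ringKrullDim]
  exact_mod_cast le_antisymm hle (ENat.one_le_iff_ne_zero.2 hne)

variable (hreg : ∀ x : X.left, IsRegularLocalRing (X.left.presheaf.stalk x))

include hreg in
theorem ufd_stalk (x : X.left) :
    IsDomain (X.left.presheaf.stalk x) ∧ UniqueFactorizationMonoid (X.left.presheaf.stalk x) := by
  haveI := hreg x
  exact ⟨inferInstance, RegUFDLib.uniqueFactorizationMonoid _⟩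

include hreg in
/-- A vertical prime divisor is an effective Cartier divisor. -/
theorem isEffCartier_ker (Γ : ArSurf.VertComp R X) (hg : IsFibGen (Models.genPtOf R X Γ)) :
    BlowUp.IsEffCartierIdeal Γ.ι.ker := by
  haveI : IsLocallyNoetherian X.left := LocallyOfFiniteType.isLocallyNoetherian X.hom
  haveI : IsIso Γ.ι.toImage := inferInstance
  haveI : IrreducibleSpace ↥Γ.ι.ker.subscheme :=
    irreducibleSpace_image Γ
  haveI : IsIntegral Γ.ι.ker.subscheme := isIntegral_of_isOpenImmersion (inv Γ.ι.toImage)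
  have e : Γ.ι.ker.subschemeι (genericPoint ↥Γ.ι.ker.subscheme) = Models.genPtOf R X Γ := by
    have h1 : Γ.ι.toImage (genericPoint Γ.curve.left) = genericPoint ↥Γ.ι.ker.subscheme := by
      refine IsGenericPoint.eq ?_ (genericPoint_spec _)
      have := (genericPoint_spec Γ.curve.left).image Γ.ι.toImage.continuous
      rwa [Set.image_univ, Set.range_eq_univ.2 Γ.ι.toImage.surjective, closure_univ] at this
    rw [← h1]
    show (Γ.ι.toImage ≫ Γ.ι.imageι) _ = _
    rw [Γ.ι.toImage_imageι]
    rfl
  refine Groth.Agent.S1684.result X.left Γ.ι.ker ?_ fun x _ => ufd_stalk hreg x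
  rw [e]
  exact dim_stalk_eq_one (genPt_over Γ) hg

omit [IsIntegral X.left] [Flat X.hom] [LocallyOfFiniteType X.hom] in
theorem stalkIdeal_ker_eq (Γ : ArSurf.VertComp R X) {x : X.left} (h : Models.genPtOf R X Γ ⤳ x) :
    IntMult.stalkIdeal Γ.ι.ker x = (primeOf h).asIdeal := by
  haveI : IrreducibleSpace ↥Γ.ι.ker.subscheme :=
    irreducibleSpace_image Γ
  haveI : IsIntegral Γ.ι.ker.subscheme := isIntegral_of_isOpenImmersion (inv Γ.ι.toImage)
  exact DiagTorLib.stalkIdeal_eq_primeOf Γ.ι.ker h (fun v => DiagTorLib.support_ker_eq Γ.ι v)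

omit [IsIntegral X.left] [Flat X.hom] [LocallyOfFiniteType X.hom] in
theorem stalkIdeal_ker_top (Γ : ArSurf.VertComp R X) {x : X.left} (h : ¬ Models.genPtOf R X Γ ⤳ x) :
    IntMult.stalkIdeal Γ.ι.ker x = ⊤ := by
  by_contra hh
  exact h ((DiagTorLib.support_ker_eq Γ.ι x).1 ((SDivLib.mem_support_iff_stalk _ x).2 hh))

include hreg in
theorem mult_eq (Γ : ArSurf.VertComp R X) (hg : IsFibGen (Models.genPtOf R X Γ)) {ϖ : R}
    (hϖ : maximalIdeal R = Ideal.span {ϖ}) {e : ℕ}
    (he : Ideal.span {Models.stalkHom R X (Models.genPtOf R X Γ) ϖ} =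
      maximalIdeal (X.left.presheaf.stalk (Models.genPtOf R X Γ)) ^ e) :
    Models.mult R X Γ = e := by
  haveI : IsLocallyNoetherian X.left := LocallyOfFiniteType.isLocallyNoetherian X.hom
  set A := X.left.presheaf.stalk (Models.genPtOf R X Γ)
  haveI := hreg (Models.genPtOf R X Γ)
  haveI := RegUFDLib.uniqueFactorizationMonoid A
  have h1 : ringKrullDim A = 1 := dim_stalk_eq_one (genPt_over Γ) hg
  haveI : IsDiscreteValuationRing A :=
    WeilExtLib.isDiscreteValuationRing_of_regular A h1.le fun hf => by
      rw [ringKrullDim_eq_zero_of_isField hf] at h1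
      exact zero_ne_one h1
  rw [Models.mult, hϖ, Ideal.map_span, Set.image_singleton]
  rw [he, IsDiscreteValuationRing.length_quotient_pow_maximalIdeal]
  rfl

end VertIntLib
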