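import Groth.Agent.VertIntLib.Comp

/-!
# The closed fibre as a combination of its components
-/

set_option autoImplicit false
set_option backward.isDefEq.respectTransparency false
set_option linter.style.haveILetI false
set_option linter.unusedSectionVars false
set_option maxHeartbeats 800000
universe u
open AlgebraicGeometry CategoryTheory CategoryTheory.Limits TopologicalSpace Topology IsLocalRing
open EquidimLib (stalkPt)
open CycDivLib (primeOf stalkPt_primeOf)

noncomputable section

namespace VertIntLib

/-- An element of a unique factorization domain all whose prime divisors are among `g i` is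
associated to a product of their powers. -/
theorem exists_assoc_prod {A : Type u} [CommRing A] [IsDomain A] [UniqueFactorizationMonoid A] {ι : Type*}
    [Fintype ι] [DecidableEq ι] (g : ι → A) {a : A} (ha : a ≠ 0)
    (h : ∀ p, Prime p → p ∣ a → ∃ i, Associated p (g i)) :
    ∃ e : ι → ℕ, Associated a (∏ i, g i ^ e i) := by
  induction a using UniqueFactorizationMonoid.induction_on_prime with
  | h₁ => exact absurd rfl ha
  | h₂ x hx => exact ⟨0, by simpa using associated_one_iff_isUnit.2 hx⟩
  | h₃ b p hb hp ih =>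
    obtain ⟨e, he⟩ := ih hb fun q hq hqb => h q hq (hqb.mul_left p)
    obtain ⟨i, hi⟩ := h p hp (dvd_mul_right p b)
    refine ⟨Function.update e i (e i + 1), (hi.mul_mul he).trans (Associated.of_eq ?_)⟩
    rw [← Finset.mul_prod_erase _ _ (Finset.mem_univ i),
      ← Finset.mul_prod_erase _ (fun j => g j ^ Function.update e i (e i + 1) j) (Finset.mem_univ i),
      ← mul_assoc, Function.update_self, pow_succ']
    refine congrArg _ (Finset.prod_congr rfl fun j hj => ?_)
    rw [Function.update_of_ne (Finset.ne_of_mem_erase hj)]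

variable {R : Type u} [CommRing R] [IsDomain R] [IsDiscreteValuationRing R]
  {X : Over (Spec (CommRingCat.of R))} [IsIntegral X.left] [Flat X.hom] [LocallyOfFiniteType X.hom]
  (hreg : ∀ x : X.left, IsRegularLocalRing (X.left.presheaf.stalk x))
  {n : ℕ} {Γ : Fin n → ArSurf.VertComp R X} (hΓ : Models.IsComponentList R X Γ)

omit [IsIntegral X.left] [Flat X.hom] [LocallyOfFiniteType X.hom] in
theorem range_eq_closure (Γ₀ : ArSurf.VertComp R X) :
    Set.range Γ₀.ι.base = closure {Models.genPtOf R X Γ₀} := by
  rw [Models.genPtOf, ← Set.image_singleton, Γ₀.ι.isClosedEmbedding.closure_image_eq,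
    (genericPoint_spec Γ₀.curve.left).def, Set.image_univ]

include hΓ in
omit [IsIntegral X.left] [Flat X.hom] [LocallyOfFiniteType X.hom] in
theorem eq_genPt_of_isFibGen {z : X.left} (hz : X.hom z = closedPoint R) (hg : IsFibGen z) :
    ∃ i, Models.genPtOf R X (Γ i) = z := by
  have hmem : closure ({z} : Set X.left) ∈ Models.fibreComponents R X := by
    refine ⟨⟨isIrreducible_singleton.closure,
      closure_minimal (Set.singleton_subset_iff.2 hz) (Models.isClosed_specialFibreSet R X)⟩, ?_⟩
    rintro S ⟨hS, hSs⟩ hle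
    have hScl : closure S ⊆ Models.specialFibreSet R X :=
      closure_minimal hSs (Models.isClosed_specialFibreSet R X)
    obtain ⟨w, hw⟩ := QuasiSober.sober hS.closure isClosed_closure
    have hwz : w ⤳ z := hw.specializes (subset_closure (hle (subset_closure rfl)))
    have : w = z := hg w (hScl hw.mem) hwz
    calc S ⊆ closure S := subset_closure
      _ = closure {w} := hw.def.symm
      _ = closure {z} := by rw [this]
  rw [← hΓ.2] at hmem
  obtain ⟨i, hi⟩ := hmem
  refine ⟨i, (IsGenericPoint.eq (S := closure ({z} : Set X.left)) ?_ rfl)⟩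
  show closure {Models.genPtOf R X (Γ i)} = closure {z}
  rw [← range_eq_closure]; exact hi

include hΓ in
omit [IsIntegral X.left] [Flat X.hom] [LocallyOfFiniteType X.hom] in
theorem genPt_injective : Function.Injective fun i => Models.genPtOf R X (Γ i) := fun i j h => by
  apply hΓ.1
  show Set.range (Γ i).ι.base = Set.range (Γ j).ι.base
  simp only [range_eq_closure] at *
  rw [h]

include hreg hΓ in
/-- **The closed fibre is `Σ m_i Γ_i`.** -/
theorem specialFibreIdeal_eq :
    Models.specialFibreIdeal R X = ∏ i, (Γ i).ι.ker ^ Models.mult R X (Γ i) := by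
  classical
  haveI : IsLocallyNoetherian X.left := LocallyOfFiniteType.isLocallyNoetherian X.hom
  obtain ⟨ϖ, hϖ'⟩ := IsDiscreteValuationRing.exists_irreducible R
  have hϖ : maximalIdeal R = Ideal.span {ϖ} := hϖ'.maximalIdeal_eq
  have hg := fun i => isFibGen_of_list hΓ i
  have hC := fun i => isEffCartier_ker hreg (Γ i) (hg i)
  suffices H : ∀ x, IntMult.stalkIdeal (Models.specialFibreIdeal R X) x =
      IntMult.stalkIdeal (∏ i, (Γ i).ι.ker ^ Models.mult R X (Γ i)) x from
    le_antisymm (SDivLib.le_of_stalk fun x => (H x).le) (SDivLib.le_of_stalk fun x => (H x).ge)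
  intro x
  rw [stalkIdeal_fibre x hϖ, SDivLib.stalkIdeal_prod]
  simp_rw [SDivLib.stalkIdeal_pow]
  set A := X.left.presheaf.stalk x
  obtain ⟨hdom, hufd⟩ := ufd_stalk hreg x
  -- generators
  have hgen : ∀ i, ∃ g : A, IntMult.stalkIdeal (Γ i).ι.ker x = Ideal.span {g} := fun i => by
    obtain ⟨U, hxU, f, -, hf⟩ := hC i x
    exact ⟨_, by rw [SDivLib.stalkIdeal_eq _ U hxU, hf, Ideal.map_span, Set.image_singleton]⟩
  choose g hg' using hgen
  have hπ := pi_ne_zero x hϖ
  obtain ⟨e, he⟩ := exists_assoc_prod g hπ fun p hp hdvd => by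
    haveI hP : (Ideal.span {p}).IsPrime := (Ideal.span_singleton_prime hp.ne_zero).2 hp
    have hz := (pi_mem_iff x ⟨_, hP⟩ hϖ).1 (Ideal.mem_span_singleton.2 hdvd)
    have hfg : IsFibGen (stalkPt x ⟨_, hP⟩) := fun z' hz' hzz' => by
      obtain ⟨q, rfl⟩ := EquidimLib.exists_stalkPt (hzz'.trans (EquidimLib.stalkPt_specializes x _))
      have hqp : q.asIdeal ≤ Ideal.span {p} := EquidimLib.le_of_stalkPt hzz'
      have hπq := (pi_mem_iff x q hϖ).2 hz'
      obtain ⟨p', hp'q, hp'⟩ := Ideal.IsPrime.exists_mem_prime_of_ne_bot q.isPrime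
        (fun h => hπ (Ideal.mem_bot.1 (h ▸ hπq)))
      have hass : Associated p p' := hp.associated_of_dvd hp' (Ideal.mem_span_singleton.1 (hqp hp'q))
      refine congrArg (stalkPt x) (PrimeSpectrum.ext (le_antisymm hqp ?_))
      show Ideal.span {p} ≤ q.asIdeal
      exact (Ideal.span_singleton_eq_span_singleton.2 hass).trans_le ((Ideal.span_singleton_le_iff_mem _).2 hp'q)
    obtain ⟨i, hi⟩ := eq_genPt_of_isFibGen hΓ hz hfg
    have hsp : Models.genPtOf R X (Γ i) ⤳ x := hi ▸ EquidimLib.stalkPt_specializes x _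
    refine ⟨i, Ideal.span_singleton_eq_span_singleton.1 ?_⟩
    rw [← hg' i, stalkIdeal_ker_eq (Γ i) hsp]
    exact congrArg PrimeSpectrum.asIdeal
      (EquidimLib.stalkPt_injective x (hi.symm.trans (stalkPt_primeOf hsp).symm) : (⟨_, hP⟩ : PrimeSpectrum A) = _)
  have hspan : Ideal.span {Models.stalkHom R X x ϖ} = ∏ i, IntMult.stalkIdeal (Γ i).ι.ker x ^ e i := by
    rw [Ideal.span_singleton_eq_span_singleton.2 he, ← Ideal.prod_span_singleton]
    exact Finset.prod_congr rfl fun i _ => by rw [hg', Ideal.span_singleton_pow]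
  rw [hspan]
  refine Finset.prod_congr rfl fun j _ => ?_
  by_cases hj : Models.genPtOf R X (Γ j) ⤳ x
  · refine congrArg _ ?_
    refine (mult_eq hreg (Γ j) (hg j) hϖ ?_).symm
    set sp := (X.left.presheaf.stalkSpecializes hj).hom
    have e1 : sp (Models.stalkHom R X x ϖ) = Models.stalkHom R X (Models.genPtOf R X (Γ j)) ϖ :=
      TopCat.Presheaf.germ_stalkSpecializes_apply X.left.presheaf (U := ⊤) trivial hj _
    have e2 : ∀ i, (IntMult.stalkIdeal (Γ i).ι.ker x).map sp =
        if i = j then maximalIdeal _ else ⊤ := fun i => by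
      rw [← DiagTorLib.stalkIdeal_specializes (Γ i).ι.ker hj]
      split_ifs with hij
      · subst hij
        rw [stalkIdeal_ker_eq (Γ i) (specializes_refl _)]
        exact (CycDivLib.map_primeOf (specializes_refl (Models.genPtOf R X (Γ i)))).symm ▸ by
          rw [show X.left.presheaf.stalkSpecializes (specializes_refl (Models.genPtOf R X (Γ i))) = 𝟙 _ from
            TopCat.Presheaf.stalkSpecializes_refl _ _]
          simp
      · refine stalkIdeal_ker_top (Γ i) fun h => hij ?_
        exact genPt_injective hΓ (hg j _ (genPt_over (Γ i)) h)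
    rw [← e1, ← Set.image_singleton, ← Ideal.map_span, hspan, ← Ideal.mapHom_apply, map_prod,
      Finset.prod_eq_single j]
    · rw [map_pow, Ideal.mapHom_apply, e2, if_pos rfl]
    · intro i _ hij
      rw [map_pow, Ideal.mapHom_apply, e2, if_neg hij, ← Ideal.one_eq_top, one_pow]
    · exact fun h => absurd (Finset.mem_univ j) h
  · rw [stalkIdeal_ker_top (Γ j) hj, ← Ideal.one_eq_top, one_pow, one_pow]

end VertIntLib
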