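import Groth.Agent.VertIntLib.Matrix
import Groth.Agent.DvrProperLib.GeomConn
import Groth.Agent.SteinLib.Conn

/-!
# The closed fibre of a proper model is connected
-/

set_option autoImplicit false
set_option backward.isDefEq.respectTransparency false
set_option linter.style.haveILetI false
set_option linter.unusedSectionVars false
set_option maxHeartbeats 1000000
universe u
open AlgebraicGeometry CategoryTheory CategoryTheory.Limits TopologicalSpace Topology IsLocalRing

noncomputable section

namespace VertIntLib

theorem geometricallyConnected_of_appTop {K : Type u} [Field K] {C : Scheme.{u}}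
    (f : C ⟶ Spec (CommRingCat.of K)) [IsProper f] (h : IsIso f.appTop) : GeometricallyConnected f := by
  refine SteinLib.geometricallyConnected_of_isIso_app _ fun U _ => ?_
  rcases (U : Set ↥(Spec (CommRingCat.of K))).eq_empty_or_nonempty with hU | ⟨x, hx⟩
  · obtain rfl : U = ⊥ := Opens.ext hU
    have h1 : Subsingleton Γ(Spec (CommRingCat.of K), ⊥) := inferInstance
    have h2 : Subsingleton Γ(C, f ⁻¹ᵁ (⊥ : (Spec (CommRingCat.of K)).Opens)) := by
      rw [Scheme.Hom.preimage_bot]; infer_instance
    exact (ConcreteCategory.isIso_iff_bijective _).2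
      ⟨fun a b _ => Subsingleton.elim a b, fun b => ⟨0, h2.elim _ _⟩⟩
  · obtain rfl : U = ⊤ := eq_top_iff.2 fun y _ => by
      rw [Subsingleton.elim (α := PrimeSpectrum K) y x]; exact hx
    exact h

variable {R : Type u} [CommRing R] [IsDomain R] [IsDiscreteValuationRing R]
  {C X : Scheme.{u}} {f : C ⟶ Spec (CommRingCat.of (FractionRing R))} {p : X ⟶ Spec (CommRingCat.of R)}

theorem isPreconnected_fibre [IsProper p] (hC : Curve.IsSmoothProperCurve (FractionRing R) C f)
    (hH0 : IsIso f.appTop) (hX : Models.IsModel R X p C f) :
    _root_.IsPreconnected (Models.specialFibreSet R (Over.mk p)) := by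
  obtain ⟨hflat, -, -, g, hg⟩ := hX
  obtain ⟨hfp, -, hCint, -⟩ := hC
  haveI := hflat
  haveI := hfp
  haveI := hCint
  haveI hgc : GeometricallyConnected f := geometricallyConnected_of_appTop f hH0
  let η : ↥(Spec (CommRingCat.of R)) := genericPoint ↥(Spec (CommRingCat.of R))
  let j := Spec.map (CommRingCat.ofHom (algebraMap R (FractionRing R)))
  let ψ : CommRingCat.of R ⟶ (Spec (CommRingCat.of R)).residueField η := Spec.preimage ((Spec (CommRingCat.of R)).fromSpecResidueField η)
  have hψ : Spec.map ψ = (Spec (CommRingCat.of R)).fromSpecResidueField η := Spec.map_preimage _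
  have hbot : (η : PrimeSpectrum R).asIdeal = ⊥ := eq_bot_iff.2 fun r hr =>
    (PrimeSpectrum.le_iff_specializes (η : PrimeSpectrum R) ⟨⊥, Ideal.isPrime_bot⟩).2
      ((genericPoint_spec ↥(Spec (CommRingCat.of R))).specializes trivial) hr
  have hinj : Function.Injective ψ.hom := by
    rw [RingHom.injective_iff_ker_eq_bot, RingHom.ker_eq_comap_bot, ← IsLocalRing.maximalIdeal_eq_bot]
    have h1 : ((Spec (CommRingCat.of R)).fromSpecResidueField η) (closedPoint ((Spec (CommRingCat.of R)).residueField η)) = η :=
      Scheme.fromSpecResidueField_apply η _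
    rw [← hψ] at h1
    exact (congrArg PrimeSpectrum.asIdeal h1).trans hbot
  let φ : CommRingCat.of (FractionRing R) ⟶ (Spec (CommRingCat.of R)).residueField η := CommRingCat.ofHom (IsFractionRing.lift hinj)
  have hφ : (Spec (CommRingCat.of R)).fromSpecResidueField η = Spec.map φ ≫ j := by
    rw [← hψ, ← Spec.map_comp]
    congr 1
    refine CommRingCat.hom_ext (RingHom.ext fun r => ?_)
    simp only [φ, CommRingCat.hom_comp, CommRingCat.hom_ofHom, RingHom.coe_comp, Function.comp_apply]
    exact (IsFractionRing.lift_algebraMap (K := FractionRing R) hinj r).symm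
  have hgen : GeometricallyConnected (p.fiberToSpecResidueField η) := by
    have hh : IsPullback (pullback.fst p ((Spec (CommRingCat.of R)).fromSpecResidueField η)) (pullback.snd p ((Spec (CommRingCat.of R)).fromSpecResidueField η)) p
        (Spec.map φ ≫ j) := hφ ▸ IsPullback.of_hasPullback _ _
    have hc : pullback.fst p ((Spec (CommRingCat.of R)).fromSpecResidueField η) ≫ p =
        (pullback.snd p ((Spec (CommRingCat.of R)).fromSpecResidueField η) ≫ Spec.map φ) ≫ j := by
      rw [Category.assoc]; exact hh.w
    refine MorphismProperty.of_isPullback (P := @GeometricallyConnected)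
      (IsPullback.of_right (h₁₁ := hg.lift _ _ hc) ?_ (hg.lift_snd _ _ hc) hg) hgc
    rw [hg.lift_fst]; exact hh
  have hne : ∃ x, p x = (𝟙 (Spec (CommRingCat.of R)) : Spec (CommRingCat.of R) ⟶ Spec (CommRingCat.of R)) (closedPoint R) := by
    have hcl : IsClosed (Set.range p) := p.isClosedMap.isClosed_range
    have hηmem : η ∈ Set.range p := by
      refine ⟨g (genericPoint C), ?_⟩
      rw [← Scheme.Hom.comp_apply, hg.w, Scheme.Hom.comp_apply]
      refine ((genericPoint_spec ↥(Spec (CommRingCat.of R))).eq ?_).symm
      show closure _ = _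
      refine Set.eq_univ_of_forall fun s => specializes_iff_mem_closure.1 ?_
      refine (PrimeSpectrum.le_iff_specializes _ _).1 ?_
      intro r hr
      have hr' : algebraMap R (FractionRing R) r ∈ (f (genericPoint C) : PrimeSpectrum (FractionRing R)).asIdeal := hr
      rw [(Ideal.eq_bot_or_top _).resolve_right (f (genericPoint C) : PrimeSpectrum (FractionRing R)).isPrime.ne_top,
        Ideal.mem_bot, IsFractionRing.to_map_eq_zero_iff] at hr'
      rw [hr']
      exact zero_mem _
    exact ((genericPoint_spec ↥(Spec (CommRingCat.of R))).specializes trivial).mem_closed hcl hηmem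
  haveI := DvrProperLib.connectedSpace_pullback_of_dvr p (R := R) (𝟙 (Spec (CommRingCat.of R))) hgen hne (ResidueField R)
    (Spec.map (CommRingCat.ofHom (residue R))) (IsLocalRing.comap_closedPoint (residue R))
  have hr : Set.range (pullback.fst p (Spec.map (CommRingCat.ofHom (residue R)))) =
      Models.specialFibreSet R (Over.mk p) := by
    rw [Scheme.Pullback.range_fst]
    have : Set.range (Spec.map (CommRingCat.ofHom (residue R))) = {closedPoint R} := by
      haveI : Subsingleton ↥(Spec (CommRingCat.of (ResidueField R))) :=
        inferInstanceAs (Subsingleton (PrimeSpectrum (ResidueField R)))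
      ext q
      exact ⟨fun ⟨a, ha⟩ => by
          rw [← ha, Subsingleton.elim a (closedPoint (ResidueField R))]
          exact IsLocalRing.comap_closedPoint (residue R),
        fun h => ⟨closedPoint (ResidueField R), (IsLocalRing.comap_closedPoint (residue R)).trans h.symm⟩⟩
    rw [this]
    rfl
  rw [← hr]
  exact isPreconnected_range (Scheme.Hom.continuous _)

end VertIntLib
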