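import Groth.Agent.VertIntLib.Pic
import Groth.Agent.VertIntLib.Conn

/-!
# Torsion and degrees of vertical line bundles
-/

set_option autoImplicit false
set_option backward.isDefEq.respectTransparency false
set_option linter.style.haveILetI false
set_option linter.unusedSectionVars false
set_option maxHeartbeats 1000000
universe u
open AlgebraicGeometry CategoryTheory CategoryTheory.Limits TopologicalSpace IsLocalRing Opposite
open CubeConsLib (cl IsoCls cl_tensor cl_eq_iff cl_eq_one_iff pull)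

noncomputable section

namespace VertIntLib

/-! ### Arithmetic -/

/-- If `d` is a rational multiple of `m`, then `gcd m • d` is an integral multiple of `m`. -/
theorem exists_gcd_mul {n : ℕ} (m : Fin n → ℕ) (d : Fin n → ℤ) {c : ℚ} (h : ∀ i, (d i : ℚ) = c * m i) :
    ∃ k : ℤ, ∀ i, ((Finset.univ.gcd m : ℕ) : ℤ) * d i = k * m i := by
  set g := Finset.univ.gcd m
  have hi : ∀ i, d i * c.den = c.num * m i := fun i => by
    have h2 : (d i : ℚ) * c.den = c.num * m i := by
      rw [h, ← Rat.mul_den_eq_num c]; ring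
    exact_mod_cast h2
  have hdvd : ∀ i, c.den ∣ m i := fun i => by
    have h3 : (c.den : ℤ) ∣ c.num * m i := ⟨d i, by rw [← hi, mul_comm]⟩
    refine (Nat.Coprime.dvd_of_dvd_mul_left (c.reduced.symm) ?_)
    rw [← Int.natAbs_natCast c.den, ← Int.natAbs_natCast (m i), ← Int.natAbs_mul]
    exact Int.natAbs_dvd_natAbs.2 h3
  obtain ⟨t, ht⟩ : c.den ∣ g := Finset.dvd_gcd fun i _ => hdvd i
  refine ⟨c.num * t, fun i => ?_⟩
  rw [ht]
  push_cast
  linear_combination (t : ℤ) * hi i

/-- A divisor of all `c m_i` divides `c gcd m`. -/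
theorem dvd_mul_gcd {n : ℕ} (m : Fin n → ℕ) {a c : ℤ} (h : ∀ i, a ∣ c * m i) :
    a ∣ c * (Finset.univ.gcd m : ℕ) := by
  rw [← Int.natAbs_dvd_natAbs, Int.natAbs_mul, Int.natAbs_natCast]
  have h1 : a.natAbs ∣ Finset.univ.gcd fun i => c.natAbs * m i :=
    Finset.dvd_gcd fun i _ => by
      have := Int.natAbs_dvd_natAbs.2 (h i)
      rwa [Int.natAbs_mul, Int.natAbs_natCast] at this
  rwa [Finset.gcd_mul_left, normalize_eq] at h1

variable {R : Type u} [CommRing R] [IsDomain R] [IsDiscreteValuationRing R]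
  {X : Over (Spec (CommRingCat.of R))} [IsIntegral X.left] [Flat X.hom] [IsProper X.hom]
  {n : ℕ} {Γ : Fin n → ArSurf.VertComp R X} {L : Fin n → X.left.Modules}
  (hL : ∀ j, ClSub.IsInverseOf (L j) (ClSub.idealMod (Γ j).ι.ker))
  (hreg : ∀ x : X.left, IsRegularLocalRing (X.left.presheaf.stalk x))
  (hΓ : Models.IsComponentList R X Γ)

/-! ### Intersection numbers of classes -/

theorem inter_congr {M N : X.left.Modules} (h : cl M = cl N) (Γ₀ : ArSurf.VertComp R X) :
    ArSurf.inter R X M Γ₀ = ArSurf.inter R X N Γ₀ := by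
  obtain ⟨e⟩ := cl_eq_iff.1 h
  rw [inter_eq_deg, inter_eq_deg]
  exact CurvLib.deg_congr ((Scheme.Modules.pullback Γ₀.ι).mapIso e) 1

theorem inter_tensor {M N : X.left.Modules} (hM : PicF.IsInvertible M) (hN : PicF.IsInvertible N)
    (Γ₀ : ArSurf.VertComp R X) :
    ArSurf.inter R X (CohB1.tensorMod M N) Γ₀ = ArSurf.inter R X M Γ₀ + ArSurf.inter R X N Γ₀ := by
  haveI := isProper_curve Γ₀
  rw [inter_eq_deg, inter_eq_deg, inter_eq_deg, CurvLib.deg_congr (PicPnLib.pullTens Γ₀.ι M N) 1]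
  exact GenusZeroLib.deg_tensor _ Γ₀.dim_eq (AmpleDevLib.isInvertible_pb Γ₀.ι hM)
    (AmpleDevLib.isInvertible_pb Γ₀.ι hN)

theorem inter_structure (Γ₀ : ArSurf.VertComp R X) :
    ArSurf.inter R X (Coh.structureModule X.left) Γ₀ = 0 := by
  rw [inter_eq_deg, CurvLib.deg_congr (KFlatLib.pullUnitIso Γ₀.ι) 1]
  simp [Curv2.deg]

theorem pow_spec {M : X.left.Modules} (hM : PicF.IsInvertible M) (Γ₀ : ArSurf.VertComp R X) :
    ∀ k : ℕ, PicF.IsInvertible (CohB1.tensorPow M k) ∧
      ArSurf.inter R X (CohB1.tensorPow M k) Γ₀ = k * ArSurf.inter R X M Γ₀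
  | 0 => ⟨CurvLib.isInvertible_structureModule,
      by rw [CohB1.tensorPow, inter_structure, Nat.cast_zero, zero_mul]⟩
  | k + 1 => by
    obtain ⟨h1, h2⟩ := pow_spec hM Γ₀ k
    refine ⟨HilbPolyLib.isInvertible_tensor h1 hM, ?_⟩
    rw [CohB1.tensorPow, inter_tensor h1 hM, h2]
    push_cast
    ring

theorem list_spec (Γ₀ : ArSurf.VertComp R X) : ∀ l : List X.left.Modules, (∀ M ∈ l, PicF.IsInvertible M) →
    PicF.IsInvertible (FGA.tensorList l) ∧
      ArSurf.inter R X (FGA.tensorList l) Γ₀ = (l.map fun M => ArSurf.inter R X M Γ₀).sum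
  | [], _ => ⟨CurvLib.isInvertible_structureModule, by rw [FGA.tensorList, inter_structure]; rfl⟩
  | M :: l, h => by
    obtain ⟨h1, h2⟩ := list_spec Γ₀ l fun N hN => h N (List.mem_cons_of_mem _ hN)
    refine ⟨HilbPolyLib.isInvertible_tensor (h M (List.mem_cons_self ..)) h1, ?_⟩
    rw [FGA.tensorList, inter_tensor (h M (List.mem_cons_self ..)) h1, h2, List.map_cons, List.sum_cons]

include hL hreg hΓ in
theorem isInvertible_L (i : Fin n) : PicF.IsInvertible (L i) :=
  isInvertible_inverse (isEffCartier_ker hreg (Γ i) (isFibGen_of_list hΓ i)) (hL i)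

include hL hreg hΓ in
theorem multiTwist_spec (a : Fin n → ℕ) (Γ₀ : ArSurf.VertComp R X) :
    PicF.IsInvertible (FGA.multiTwist L a) ∧
      ArSurf.inter R X (FGA.multiTwist L a) Γ₀ = ∑ j, (a j : ℤ) * ArSurf.inter R X (L j) Γ₀ := by
  obtain ⟨h1, h2⟩ := list_spec Γ₀ ((List.finRange n).map fun i => CohB1.tensorPow (L i) (a i)) fun M hM => by
    obtain ⟨i, -, rfl⟩ := List.mem_map.1 hM
    exact (pow_spec (isInvertible_L hL hreg hΓ i) Γ₀ (a i)).1
  refine ⟨h1, h2.trans ?_⟩
  rw [List.map_map, Fin.sum_univ_def]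
  exact congrArg List.sum (List.map_congr_left fun i _ => (pow_spec (isInvertible_L hL hreg hΓ i) Γ₀ (a i)).2)

theorem vt_split (d : Fin n → ℤ) :
    d = (fun i => ((d i).toNat : ℤ)) - fun i => (((-d i)).toNat : ℤ) :=
  funext fun i => (Int.toNat_sub_toNat_neg (d i)).symm

include hreg hΓ in
/-- Every vertical class is the class of an invertible module. -/
theorem exists_mod (d : Fin n → ℤ) :
    ∃ V : X.left.Modules, PicF.IsInvertible V ∧ cl V = ((vt hL d : (IsoCls X.left)ˣ) : IsoCls X.left) := by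
  have hC := fun i => isEffCartier_ker hreg (Γ i) (isFibGen_of_list hΓ i)
  refine ⟨CohB1.tensorMod (FGA.multiTwist L fun i => (d i).toNat)
    (ClSub.idealMod (∏ i, (Γ i).ι.ker ^ (-d i).toNat)), HilbPolyLib.isInvertible_tensor ?_ ?_, ?_⟩
  · rcases n with _ | n
    · exact CurvLib.isInvertible_structureModule
    · exact (multiTwist_spec hL hreg hΓ _ (Γ 0)).1
  · exact IntMultLib.isInvertible_idealMod _
      (SurfAmpleLib.isEffCartier_finprod _ fun i _ => SurfAmpleLib.isEffCartier_pow' (hC i) _)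
  · conv_rhs => rw [vt_split d, vt_sub, div_eq_mul_inv, Units.val_mul, val_vt_natCast, inv_vt_natCast hL hreg hΓ]
    rw [cl_tensor]; rfl

include hreg hΓ in
/-- Intersection numbers of a vertical class. -/
theorem inter_of_vt {M : X.left.Modules} (hM : PicF.IsInvertible M) {d : Fin n → ℤ}
    (h : cl M = ((vt hL d : (IsoCls X.left)ˣ) : IsoCls X.left)) (Γ₀ : ArSurf.VertComp R X) :
    ArSurf.inter R X M Γ₀ = ∑ j, d j * ArSurf.inter R X (L j) Γ₀ := by
  set a : Fin n → ℕ := fun i => (d i).toNat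
  set b : Fin n → ℕ := fun i => (-d i).toNat
  obtain ⟨ha, ha'⟩ := multiTwist_spec hL hreg hΓ a Γ₀
  obtain ⟨hb, hb'⟩ := multiTwist_spec hL hreg hΓ b Γ₀
  have hcl : cl (CohB1.tensorMod M (FGA.multiTwist L b)) = cl (FGA.multiTwist L a) := by
    rw [cl_tensor, h, ← val_vt_natCast hL, ← val_vt_natCast hL, ← Units.val_mul, ← vt_add]
    congr 2
    funext i
    show d i + ((-d i).toNat : ℤ) = ((d i).toNat : ℤ)
    omega
  have h2 := inter_congr hcl Γ₀
  rw [inter_tensor hM hb, ha', hb'] at h2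
  have h3 : ∑ j, d j * ArSurf.inter R X (L j) Γ₀ =
      ∑ j, (a j : ℤ) * ArSurf.inter R X (L j) Γ₀ - ∑ j, (b j : ℤ) * ArSurf.inter R X (L j) Γ₀ := by
    rw [← Finset.sum_sub_distrib]
    refine Finset.sum_congr rfl fun j _ => ?_
    rw [← sub_mul]
    congr 1
    exact (Int.toNat_sub_toNat_neg (d j)).symm
  linarith

include hreg hΓ in
/-- A vertical class of degree zero is, up to `gcd`, a multiple of the fibre. -/
theorem gcd_vt_eq_one (hR : ∀ φ : Γ(X.left, ⊤), ∃ r : R, gρ X.hom r = φ)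
    (hconn : _root_.IsPreconnected (Models.specialFibreSet R X)) {d : Fin n → ℤ}
    (hdeg : ∀ i, ∑ j, d j * ArSurf.inter R X (L j) (Γ i) = 0) :
    vt hL d ^ ((Models.multGcd R X Γ : ℕ) : ℤ) = 1 := by
  obtain ⟨c, hc⟩ := (list_kernel hreg hΓ hL hconn (cover_of_list hΓ) d).1 (by
    rw [Fintype.sum_prod_type]
    exact Finset.sum_eq_zero fun i _ => by simp only [mul_assoc, ← Finset.mul_sum, hdeg i, mul_zero])
  obtain ⟨k, hk⟩ := exists_gcd_mul (fun i => Models.mult R X (Γ i)) d hc
  rw [← vt_smul, vt_eq_one_iff hL hreg hΓ hR]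
  exact ⟨k, fun i => by rw [Pi.smul_apply, smul_eq_mul]; exact hk i⟩

include hreg hΓ in
/-- Vertical classes are trivial on the generic fibre. -/
theorem pull_vt {C : Scheme.{u}} {f : C ⟶ Spec (CommRingCat.of (FractionRing R))} [IsIntegral C] {g : C ⟶ X.left}
    (hg : IsPullback g f X.hom (Spec.map (CommRingCat.ofHom (algebraMap R (FractionRing R)))))
    (d : Fin n → ℤ) : pull g ((vt hL d : (IsoCls X.left)ˣ) : IsoCls X.left) = 1 := by
  have hone : ∀ i, Units.map (pull g) (uL hL i) = 1 := fun i => by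
    have hC := isEffCartier_ker hreg (Γ i) (isFibGen_of_list hΓ i)
    have htop : (Γ i).ι.ker.comap g = ⊤ := by
      refine (Scheme.IdealSheafData.support_eq_bot_iff _).1 ?_
      rw [Scheme.IdealSheafData.support_comap]
      refine TopologicalSpace.Closeds.ext (Set.eq_empty_of_forall_notMem fun c hc => ?_)
      have h1 : g c ∈ ((Γ i).ι.ker.support : Set X.left) := hc
      rw [Scheme.Hom.support_ker, (Γ i).ι.isClosedEmbedding.isClosed_range.closure_eq] at h1
      obtain ⟨a, ha⟩ := h1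
      have h2 : X.hom (g c) = closedPoint R := ha ▸ over_closedPoint (Γ i) a
      have hr : Set.range g = {y | X.hom y = RelMinSmLib.eta (R := R)} := by
        rw [← hg.isoPullback_hom_fst, Scheme.Hom.comp_base, TopCat.coe_comp,
          Set.range_comp, Set.range_eq_univ.2 hg.isoPullback.hom.surjective, Set.image_univ,
          Scheme.Pullback.range_fst, RelMinSmLib.range_genPt]
        rfl
      exact eta_ne_closedPoint ((hr.le ⟨c, rfl⟩).symm.trans h2)
    obtain ⟨e⟩ := SymSqLib.nonempty_pb_ideal g (Γ i).ι.ker (IntMultLib.isInvertible_idealMod _ hC)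
      (IntMultLib.isInvertible_idealMod _ (by rw [htop]; exact EffCartLib.isEffCartier_top))
    have hi : pull g (idc (Γ i).ι.ker) = 1 := by
      refine (cl_eq_iff.2 ⟨e⟩ : pull g (idc (Γ i).ι.ker) = cl (ClSub.idealMod ((Γ i).ι.ker.comap g))).trans ?_
      rw [htop]
      exact idc_one
    refine inv_eq_one.1 (Units.ext ?_)
    rw [← map_inv]
    exact hi
  show ((Units.map (pull g) (vt hL d) : (IsoCls C)ˣ) : IsoCls C) = 1
  rw [Units.val_eq_one, vt, map_prod]
  exact Finset.prod_eq_one fun i _ => by rw [map_zpow, hone, one_zpow]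

end VertIntLib
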