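import Groth.Agent.VertIntLib.Prod
import Groth.Agent.DivDescLib.Local

/-!
# Vertical divisors as combinations of components
-/

set_option autoImplicit false
set_option backward.isDefEq.respectTransparency false
set_option linter.style.haveILetI false
set_option linter.unusedSectionVars false
set_option maxHeartbeats 800000
universe u
open AlgebraicGeometry CategoryTheory CategoryTheory.Limits TopologicalSpace Topology IsLocalRing
open EquidimLib (stalkPt)
open CycDivLib (primeOf stalkPt_primeOf)

noncomputable section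

namespace VertIntLib

variable {R : Type u} [CommRing R] [IsDomain R] [IsDiscreteValuationRing R]
  {X : Over (Spec (CommRingCat.of R))} [IsIntegral X.left] [Flat X.hom] [LocallyOfFiniteType X.hom]
  (hreg : ∀ x : X.left, IsRegularLocalRing (X.left.presheaf.stalk x))
  {n : ℕ} {Γ : Fin n → ArSurf.VertComp R X} (hΓ : Models.IsComponentList R X Γ)

include hreg hΓ in
/-- The stalk of a combination of components at the generic point of one of them. -/
theorem stalkIdeal_prod_genPt (e : Fin n → ℕ) (j : Fin n) :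
    IntMult.stalkIdeal (∏ i, (Γ i).ι.ker ^ e i) (Models.genPtOf R X (Γ j)) =
      maximalIdeal (X.left.presheaf.stalk (Models.genPtOf R X (Γ j))) ^ e j := by
  classical
  have hg := fun i => isFibGen_of_list hΓ i
  rw [SDivLib.stalkIdeal_prod, Finset.prod_eq_single j]
  · rw [SDivLib.stalkIdeal_pow, stalkIdeal_ker_eq (Γ j) (specializes_refl _)]
    congr 1
    exact (CycDivLib.map_primeOf (specializes_refl (Models.genPtOf R X (Γ j)))).symm ▸ by
      rw [show X.left.presheaf.stalkSpecializes (specializes_refl (Models.genPtOf R X (Γ j))) = 𝟙 _ from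
        TopCat.Presheaf.stalkSpecializes_refl _ _]
      simp
  · intro i _ hij
    rw [SDivLib.stalkIdeal_pow, stalkIdeal_ker_top (Γ i) fun h => hij ?_, ← Ideal.one_eq_top, one_pow]
    exact genPt_injective hΓ (hg j _ (genPt_over (Γ i)) h)
  · exact fun h => absurd (Finset.mem_univ j) h

omit hreg hΓ in
theorem associated_pow_iff {A : Type u} [CommRing A] [IsDomain A] {t : A} (ht : Irreducible t) {a b : ℕ}
    (h : Associated (t ^ a) (t ^ b)) : t ^ a = t ^ b := by
  rw [le_antisymm ((pow_dvd_pow_iff ht.ne_zero ht.not_isUnit).1 h.dvd)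
    ((pow_dvd_pow_iff ht.ne_zero ht.not_isUnit).1 h.symm.dvd)]

include hreg hΓ in
/-- The exponents of a combination of components are determined by it. -/
theorem prod_ker_injective {d e : Fin n → ℕ}
    (h : ∏ i, (Γ i).ι.ker ^ d i = ∏ i, (Γ i).ι.ker ^ e i) : d = e := funext fun j => by
  haveI : IsLocallyNoetherian X.left := LocallyOfFiniteType.isLocallyNoetherian X.hom
  set x := Models.genPtOf R X (Γ j)
  haveI := hreg x
  haveI := RegUFDLib.uniqueFactorizationMonoid (X.left.presheaf.stalk x)
  have h1 : ringKrullDim (X.left.presheaf.stalk x) = 1 :=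
    dim_stalk_eq_one (genPt_over (Γ j)) (isFibGen_of_list hΓ j)
  haveI : IsDiscreteValuationRing (X.left.presheaf.stalk x) :=
    WeilExtLib.isDiscreteValuationRing_of_regular _ h1.le fun hf => by
      rw [ringKrullDim_eq_zero_of_isField hf] at h1
      exact zero_ne_one h1
  obtain ⟨t, ht⟩ := IsDiscreteValuationRing.exists_irreducible (X.left.presheaf.stalk x)
  have h2 := congrArg (fun I => IntMult.stalkIdeal I x) h
  simp only [x, stalkIdeal_prod_genPt hreg hΓ] at h2
  rw [ht.maximalIdeal_eq, Ideal.span_singleton_pow, Ideal.span_singleton_pow,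
    Ideal.span_singleton_eq_span_singleton] at h2
  exact pow_injective_of_not_isUnit ht.not_isUnit ht.ne_zero
    ((associated_pow_iff ht h2))

include hreg hΓ in
/-- **An effective divisor supported in the closed fibre is a combination of components.** -/
theorem exists_eq_prod {I : X.left.IdealSheafData} (hI : BlowUp.IsEffCartierIdeal I)
    (hsupp : ∀ x ∈ I.support, X.hom x = closedPoint R) :
    ∃ e : Fin n → ℕ, I = ∏ i, (Γ i).ι.ker ^ e i := by
  classical
  haveI : IsLocallyNoetherian X.left := LocallyOfFiniteType.isLocallyNoetherian X.hom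
  obtain ⟨ϖ, hϖ'⟩ := IsDiscreteValuationRing.exists_irreducible R
  have hϖ : maximalIdeal R = Ideal.span {ϖ} := hϖ'.maximalIdeal_eq
  have hg := fun i => isFibGen_of_list hΓ i
  have hC := fun i => isEffCartier_ker hreg (Γ i) (hg i)
  have hexp : ∀ j, ∃ e : ℕ, IntMult.stalkIdeal I (Models.genPtOf R X (Γ j)) = maximalIdeal _ ^ e := fun j => by
    set x := Models.genPtOf R X (Γ j)
    haveI := hreg x
    haveI := RegUFDLib.uniqueFactorizationMonoid (X.left.presheaf.stalk x)
    have h1 : ringKrullDim (X.left.presheaf.stalk x) = 1 := dim_stalk_eq_one (genPt_over (Γ j)) (hg j)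
    haveI : IsDiscreteValuationRing (X.left.presheaf.stalk x) :=
      WeilExtLib.isDiscreteValuationRing_of_regular _ h1.le fun hf => by
        rw [ringKrullDim_eq_zero_of_isField hf] at h1
        exact zero_ne_one h1
    obtain ⟨a, ha, hIa⟩ := DivDescLib.exists_gen hI x
    obtain ⟨t, ht⟩ := IsDiscreteValuationRing.exists_irreducible (X.left.presheaf.stalk x)
    obtain ⟨e, u, hu⟩ := IsDiscreteValuationRing.eq_unit_mul_pow_irreducible (nonZeroDivisors.ne_zero ha) ht
    exact ⟨e, by rw [hIa, hu, Ideal.span_singleton_mul_left_unit u.isUnit, ht.maximalIdeal_eq, Ideal.span_singleton_pow]⟩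
  choose E hE using hexp
  refine ⟨E, DivDescLib.eq_of_stalk fun x => ?_⟩
  rw [SDivLib.stalkIdeal_prod]
  simp_rw [SDivLib.stalkIdeal_pow]
  obtain ⟨hdom, hufd⟩ := ufd_stalk hreg x
  have hgen : ∀ i, ∃ g : X.left.presheaf.stalk x, IntMult.stalkIdeal (Γ i).ι.ker x = Ideal.span {g} := fun i => by
    obtain ⟨g, -, hg⟩ := DivDescLib.exists_gen (hC i) x
    exact ⟨g, hg⟩
  choose g hg' using hgen
  obtain ⟨a, ha, hIa⟩ := DivDescLib.exists_gen hI x
  have ha0 := nonZeroDivisors.ne_zero ha
  obtain ⟨e, he⟩ := exists_assoc_prod g ha0 fun p hp hdvd => by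
    haveI hP : (Ideal.span {p}).IsPrime := (Ideal.span_singleton_prime hp.ne_zero).2 hp
    have hIp : IntMult.stalkIdeal I x ≤ Ideal.span {p} := by
      rw [hIa]; exact Ideal.span_singleton_le_span_singleton.2 hdvd
    have hz : X.hom (stalkPt x ⟨_, hP⟩) = closedPoint R :=
      hsupp _ ((IntMultRegLib.stalkPt_mem_support_iff I x ⟨_, hP⟩).2 hIp)
    have hfg : IsFibGen (stalkPt x ⟨_, hP⟩) := fun z' hz' hzz' => by
      obtain ⟨q, rfl⟩ := EquidimLib.exists_stalkPt (hzz'.trans (EquidimLib.stalkPt_specializes x _))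
      have hqp : q.asIdeal ≤ Ideal.span {p} := EquidimLib.le_of_stalkPt hzz'
      have hπq := (pi_mem_iff x q hϖ).2 hz'
      obtain ⟨p', hp'q, hp'⟩ := Ideal.IsPrime.exists_mem_prime_of_ne_bot q.isPrime
        (fun h => pi_ne_zero x hϖ (Ideal.mem_bot.1 (h ▸ hπq)))
      have hass : Associated p p' := hp.associated_of_dvd hp' (Ideal.mem_span_singleton.1 (hqp hp'q))
      refine congrArg (stalkPt x) (PrimeSpectrum.ext (le_antisymm hqp ?_))
      show Ideal.span {p} ≤ q.asIdeal
      exact (Ideal.span_singleton_eq_span_singleton.2 hass).trans_le ((Ideal.span_singleton_le_iff_mem _).2 hp'q)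
    obtain ⟨i, hi⟩ := eq_genPt_of_isFibGen hΓ hz hfg
    have hsp : Models.genPtOf R X (Γ i) ⤳ x := hi ▸ EquidimLib.stalkPt_specializes x _
    refine ⟨i, Ideal.span_singleton_eq_span_singleton.1 ?_⟩
    rw [← hg' i, stalkIdeal_ker_eq (Γ i) hsp]
    exact congrArg PrimeSpectrum.asIdeal
      (EquidimLib.stalkPt_injective x (hi.symm.trans (stalkPt_primeOf hsp).symm) :
        (⟨_, hP⟩ : PrimeSpectrum (X.left.presheaf.stalk x)) = _)
  have hspan : IntMult.stalkIdeal I x = ∏ i, IntMult.stalkIdeal (Γ i).ι.ker x ^ e i := by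
    rw [hIa, Ideal.span_singleton_eq_span_singleton.2 he, ← Ideal.prod_span_singleton]
    exact Finset.prod_congr rfl fun i _ => by rw [hg', Ideal.span_singleton_pow]
  rw [hspan]
  refine Finset.prod_congr rfl fun j _ => ?_
  by_cases hj : Models.genPtOf R X (Γ j) ⤳ x
  · refine congrArg _ ?_
    set sp := (X.left.presheaf.stalkSpecializes hj).hom
    haveI := hreg (Models.genPtOf R X (Γ j))
    haveI := RegUFDLib.uniqueFactorizationMonoid (X.left.presheaf.stalk (Models.genPtOf R X (Γ j)))
    have h1 : ringKrullDim (X.left.presheaf.stalk (Models.genPtOf R X (Γ j))) = 1 :=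
      dim_stalk_eq_one (genPt_over (Γ j)) (hg j)
    haveI : IsDiscreteValuationRing (X.left.presheaf.stalk (Models.genPtOf R X (Γ j))) :=
      WeilExtLib.isDiscreteValuationRing_of_regular _ h1.le fun hf => by
        rw [ringKrullDim_eq_zero_of_isField hf] at h1
        exact zero_ne_one h1
    have hmap : (∏ i, IntMult.stalkIdeal (Γ i).ι.ker x ^ e i).map sp =
        IntMult.stalkIdeal (∏ i, (Γ i).ι.ker ^ e i) (Models.genPtOf R X (Γ j)) := by
      rw [DiagTorLib.stalkIdeal_specializes (∏ i, (Γ i).ι.ker ^ e i) hj, SDivLib.stalkIdeal_prod]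
      simp_rw [SDivLib.stalkIdeal_pow]
      rfl
    have h2 : IntMult.stalkIdeal I (Models.genPtOf R X (Γ j)) =
        maximalIdeal (X.left.presheaf.stalk (Models.genPtOf R X (Γ j))) ^ e j := by
      rw [DiagTorLib.stalkIdeal_specializes I hj, hspan, ← stalkIdeal_prod_genPt hreg hΓ e j, ← hmap]
    rw [hE j] at h2
    obtain ⟨t, ht⟩ := IsDiscreteValuationRing.exists_irreducible (X.left.presheaf.stalk (Models.genPtOf R X (Γ j)))
    rw [ht.maximalIdeal_eq, Ideal.span_singleton_pow, Ideal.span_singleton_pow,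
      Ideal.span_singleton_eq_span_singleton] at h2
    exact (pow_injective_of_not_isUnit ht.not_isUnit ht.ne_zero (associated_pow_iff ht h2)).symm
  · rw [stalkIdeal_ker_top (Γ j) hj, ← Ideal.one_eq_top, one_pow, one_pow]

end VertIntLib
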