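import Groth.Agent.VertIntLib.PicApps

/-!
# Vertical divisors, torsion and lifting of classes from the generic fibre
-/

set_option autoImplicit false
set_option backward.isDefEq.respectTransparency false
set_option linter.style.haveILetI false
set_option linter.unusedSectionVars false
set_option maxHeartbeats 1000000
universe u
open AlgebraicGeometry CategoryTheory CategoryTheory.Limits TopologicalSpace IsLocalRing Opposite
open CubeConsLib (cl IsoCls cl_tensor cl_eq_iff cl_eq_one_iff pull)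

noncomputable section

namespace VertIntLib

/-- A unit and a module with the same class. -/
theorem exists_inverse_mod {W : Scheme.{u}} {M : W.Modules} (hM : PicF.IsInvertible M) :
    ∃ D : W.Modules, PicF.IsInvertible D ∧ cl M * cl D = 1 := by
  obtain ⟨e⟩ := MiscFlat6.nonempty_dualIso hM
  exact ⟨_, IntMultLib.isInvertible_of_inverse hM e, by rw [← cl_tensor]; exact cl_eq_one_iff.2 ⟨e⟩⟩

variable {R : Type u} [CommRing R] [IsDomain R] [IsDiscreteValuationRing R]
  {X : Over (Spec (CommRingCat.of R))} [IsIntegral X.left] [Flat X.hom] [IsProper X.hom]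
  {n : ℕ} {Γ : Fin n → ArSurf.VertComp R X} {L : Fin n → X.left.Modules}
  (hL : ∀ j, ClSub.IsInverseOf (L j) (ClSub.idealMod (Γ j).ι.ker))
  (hreg : ∀ x : X.left, IsRegularLocalRing (X.left.presheaf.stalk x))
  (hΓ : Models.IsComponentList R X Γ)
  (hR : ∀ φ : Γ(X.left, ⊤), ∃ r : R, gρ X.hom r = φ)
  {C : Scheme.{u}} [IsIntegral C] {f : C ⟶ Spec (CommRingCat.of (FractionRing R))} {g : C ⟶ X.left}
  (hg : IsPullback g f X.hom (Spec.map (CommRingCat.ofHom (algebraMap R (FractionRing R)))))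

include hL hreg hΓ hR in
theorem s3314 (a b : Fin n → ℕ) :
    Nonempty (FGA.multiTwist L a ≅ FGA.multiTwist L b) ↔
      ∃ c : ℤ, ∀ i, (a i : ℤ) - (b i : ℤ) = c * (Models.mult R X (Γ i) : ℤ) := by
  rw [← cl_eq_iff, ← val_vt_natCast hL, ← val_vt_natCast hL, Units.val_inj, ← div_eq_one, ← vt_sub,
    vt_eq_one_iff hL hreg hΓ hR]
  rfl

include hL hreg hΓ hg in
theorem s3315 {M : X.left.Modules} (hM : PicF.IsInvertible M)
    (htriv : Nonempty ((Scheme.Modules.pullback g).obj M ≅ Coh.structureModule C)) :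
    ∃ a b : Fin n → ℕ, Nonempty (CohB1.tensorMod M (FGA.multiTwist L a) ≅ FGA.multiTwist L b) := by
  obtain ⟨a, b, hab⟩ := exists_vt hL hreg hΓ hg hM htriv
  refine ⟨b, a, cl_eq_iff.1 ?_⟩
  rw [cl_tensor, ← hab, ← val_vt_natCast hL, ← val_vt_natCast hL, ← Units.val_mul, ← vt_add]
  congr 2
  funext i
  simp

include hL hreg hΓ hg in
theorem s3348 {N : C.Modules} {M : X.left.Modules} (hM : PicF.IsInvertible M)
    (hMN : Nonempty ((Scheme.Modules.pullback g).obj M ≅ N)) :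
    (∃ v : Fin n → ℤ, ∀ i, ArSurf.inter R X M (Γ i) = ∑ j, ArSurf.inter R X (L j) (Γ i) * v j) ↔
      ∃ M' : X.left.Modules, PicF.IsInvertible M' ∧ Nonempty ((Scheme.Modules.pullback g).obj M' ≅ N) ∧
        ∀ i, ArSurf.inter R X M' (Γ i) = 0 := by
  constructor
  · rintro ⟨v, hv⟩
    obtain ⟨V, hV, hVc⟩ := exists_mod hL hreg hΓ (-v)
    refine ⟨CohB1.tensorMod M V, HilbPolyLib.isInvertible_tensor hM hV, cl_eq_iff.1 ?_, fun i => ?_⟩
    · rw [← CubeConsLib.pull_cl, cl_tensor, map_mul, hVc, pull_vt hL hreg hΓ hg, mul_one, CubeConsLib.pull_cl]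
      exact cl_eq_iff.2 hMN
    · rw [inter_tensor hM hV, inter_of_vt hL hreg hΓ hV hVc, hv i, ← Finset.sum_add_distrib]
      exact Finset.sum_eq_zero fun j _ => by simp [mul_comm]
  · rintro ⟨M', hM', hMN', hdeg⟩
    obtain ⟨D, hDi, hD⟩ := exists_inverse_mod hM'
    have hp : pull g (cl M) = pull g (cl M') := by
      rw [CubeConsLib.pull_cl, CubeConsLib.pull_cl, cl_eq_iff.2 hMN, cl_eq_iff.2 hMN']
    obtain ⟨a, b, hab⟩ := exists_vt hL hreg hΓ hg (HilbPolyLib.isInvertible_tensor hM hDi) (cl_eq_one_iff.1 (by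
      rw [← CubeConsLib.pull_cl, cl_tensor, map_mul, hp, ← map_mul, hD, map_one]))
    refine ⟨fun i => (a i : ℤ) - (b i : ℤ), fun i => ?_⟩
    have h1 := inter_of_vt hL hreg hΓ (HilbPolyLib.isInvertible_tensor hM hDi) hab.symm (Γ i)
    rw [inter_tensor hM hDi] at h1
    have h2 := inter_congr (X := X) (show cl (CohB1.tensorMod M' D) = cl (Coh.structureModule X.left) from
      (cl_tensor _ _).trans hD) (Γ i)
    rw [inter_tensor hM' hDi, hdeg i, zero_add, inter_structure] at h2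
    rw [h2, add_zero] at h1
    rw [h1]
    exact Finset.sum_congr rfl fun j _ => mul_comm _ _

include hL hreg hΓ hR hg in
theorem s3342 (hconn : _root_.IsPreconnected (Models.specialFibreSet R X))
    {h : ℕ} (hcop : Nat.Coprime h (Models.multGcd R X Γ)) {N : C.Modules}
    (hNt : Nonempty (CohB1.tensorPow N h ≅ Coh.structureModule C))
    {M : X.left.Modules} (hM : PicF.IsInvertible M)
    (hMN : Nonempty ((Scheme.Modules.pullback g).obj M ≅ N)) (v : Fin n → ℤ)
    (hv : ∀ i, ArSurf.inter R X M (Γ i) = ∑ j, ArSurf.inter R X (L j) (Γ i) * v j) :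
    ∃ M' : X.left.Modules, PicF.IsInvertible M' ∧ Nonempty (CohB1.tensorPow M' h ≅ Coh.structureModule X.left) ∧
      Nonempty ((Scheme.Modules.pullback g).obj M' ≅ N) := by
  rcases isEmpty_or_nonempty (Fin n) with hn | ⟨⟨i₀⟩⟩
  · -- no components: degrees impose nothing
    obtain ⟨a, b, hab⟩ := exists_vt hL hreg hΓ hg (AmpleThLib.tensorPow_isInvertible hM h) (cl_eq_one_iff.1 (by
      rw [← CubeConsLib.pull_cl, cl_tensorPow, map_pow, CubeConsLib.pull_cl, cl_eq_iff.2 hMN, ← cl_tensorPow,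
        cl_eq_one_iff.2 hNt]))
    refine ⟨M, hM, cl_eq_one_iff.1 ?_, hMN⟩
    rw [← hab, Units.val_eq_one, vt_eq_one_iff hL hreg hΓ hR]
    exact ⟨0, fun i => hn.elim i⟩
  obtain ⟨V, hV, hVc⟩ := exists_mod hL hreg hΓ (-v)
  have hM₁ := HilbPolyLib.isInvertible_tensor hM hV
  have hp₁ : pull g (cl (CohB1.tensorMod M V)) = cl N := by
    rw [cl_tensor, map_mul, hVc, pull_vt hL hreg hΓ hg, mul_one, CubeConsLib.pull_cl]
    exact cl_eq_iff.2 hMN
  have hM₁h := AmpleThLib.tensorPow_isInvertible hM₁ h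
  obtain ⟨a, b, hab⟩ := exists_vt hL hreg hΓ hg hM₁h (cl_eq_one_iff.1 (by
    rw [← CubeConsLib.pull_cl, cl_tensorPow, map_pow, hp₁, ← cl_tensorPow, cl_eq_one_iff.2 hNt]))
  set d : Fin n → ℤ := fun i => (a i : ℤ) - (b i : ℤ)
  have hdeg : ∀ i, ∑ j, d j * ArSurf.inter R X (L j) (Γ i) = 0 := fun i => by
    rw [← inter_of_vt hL hreg hΓ hM₁h hab.symm (Γ i), (pow_spec hM₁ (Γ i) h).2, inter_tensor hM hV,
      inter_of_vt hL hreg hΓ hV hVc, hv i, ← Finset.sum_add_distrib, Finset.sum_eq_zero fun j _ => by simp [mul_comm],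
      mul_zero]
  have hg1 := gcd_vt_eq_one hL hreg hΓ hR hconn hdeg
  obtain ⟨s, t, hst⟩ : IsCoprime (h : ℤ) ((Models.multGcd R X Γ : ℕ) : ℤ) :=
    Int.isCoprime_iff_gcd_eq_one.2 (by exact_mod_cast hcop)
  obtain ⟨W, hW, hWc⟩ := exists_mod hL hreg hΓ (-s • d)
  refine ⟨CohB1.tensorMod (CohB1.tensorMod M V) W, HilbPolyLib.isInvertible_tensor hM₁ hW, cl_eq_one_iff.1 ?_,
    cl_eq_iff.1 ?_⟩
  · rw [cl_tensorPow, cl_tensor _ W, mul_pow, ← cl_tensorPow, ← hab, hWc, ← Units.val_pow_eq_pow_val,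
      ← Units.val_mul, Units.val_eq_one]
    show vt hL d * vt hL (-s • d) ^ h = 1
    rw [vt_smul, ← zpow_natCast (vt hL d ^ (-s)), ← zpow_mul]
    calc vt hL d * vt hL d ^ (-s * (h : ℤ)) = vt hL d ^ (1 + -s * (h : ℤ)) := by rw [zpow_add, zpow_one]
      _ = (vt hL d ^ ((Models.multGcd R X Γ : ℕ) : ℤ)) ^ t := by rw [← zpow_mul]; congr 1; linarith
      _ = 1 := by rw [hg1, one_zpow]
  · rw [← CubeConsLib.pull_cl, cl_tensor _ W, map_mul, hp₁, hWc, pull_vt hL hreg hΓ hg, mul_one]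

include hL hreg hΓ hR hg in
theorem s19924 {h : ℕ} {N : C.Modules}
    {M : X.left.Modules} (hM : PicF.IsInvertible M)
    (hMN : Nonempty ((Scheme.Modules.pullback g).obj M ≅ N)) (a b : Fin n → ℕ)
    (hab : Nonempty (CohB1.tensorMod (CohB1.tensorPow M h) (FGA.multiTwist L a) ≅ FGA.multiTwist L b)) :
    (∃ M' : X.left.Modules, PicF.IsInvertible M' ∧ Nonempty (CohB1.tensorPow M' h ≅ Coh.structureModule X.left) ∧
        Nonempty ((Scheme.Modules.pullback g).obj M' ≅ N)) ↔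
      ∃ (c : Fin n → ℤ) (e : ℤ), ∀ i, ((b i : ℤ) - (a i : ℤ)) = (h : ℤ) * c i + e * (Models.mult R X (Γ i) : ℤ) := by
  set d : Fin n → ℤ := fun i => (b i : ℤ) - (a i : ℤ)
  have hd : cl M ^ h = ((vt hL d : (IsoCls X.left)ˣ) : IsoCls X.left) := by
    have h1 := cl_eq_iff.2 hab
    rw [cl_tensor, cl_tensorPow, ← val_vt_natCast hL, ← val_vt_natCast hL, ← Units.eq_mul_inv_iff_mul_eq] at h1
    rw [h1, ← Units.val_mul, ← div_eq_mul_inv, ← vt_sub]
    rfl
  constructor
  · rintro ⟨M', hM', hM't, hMN'⟩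
    obtain ⟨D, hDi, hD⟩ := exists_inverse_mod hM
    have hp : pull g (cl M') = pull g (cl M) := by
      rw [CubeConsLib.pull_cl, CubeConsLib.pull_cl, cl_eq_iff.2 hMN, cl_eq_iff.2 hMN']
    obtain ⟨a', b', hab'⟩ := exists_vt hL hreg hΓ hg (HilbPolyLib.isInvertible_tensor hM' hDi) (cl_eq_one_iff.1 (by
      rw [← CubeConsLib.pull_cl, cl_tensor, map_mul, hp, ← map_mul, hD, map_one]))
    set w : Fin n → ℤ := fun i => (a' i : ℤ) - (b' i : ℤ)
    have hM'eq : cl M' = cl M * ((vt hL w : (IsoCls X.left)ˣ) : IsoCls X.left) := by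
      rw [hab', cl_tensor, mul_left_comm, hD, mul_one]
    have h2 : vt hL d * vt hL w ^ h = 1 := by
      refine Units.ext ?_
      rw [Units.val_mul, Units.val_pow_eq_pow_val, Units.val_one, ← hd, ← mul_pow, ← hM'eq, ← cl_tensorPow]
      exact cl_eq_one_iff.2 hM't
    rw [← zpow_natCast, ← vt_smul, ← vt_add, vt_eq_one_iff hL hreg hΓ hR] at h2
    obtain ⟨e, he⟩ := h2
    refine ⟨-w, e, fun i => ?_⟩
    have := he i
    simp only [Pi.add_apply, Pi.smul_apply, smul_eq_mul] at this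
    show d i = _
    rw [Pi.neg_apply]
    linarith
  · rintro ⟨c, e, hce⟩
    obtain ⟨V, hV, hVc⟩ := exists_mod hL hreg hΓ (-c)
    refine ⟨CohB1.tensorMod M V, HilbPolyLib.isInvertible_tensor hM hV, cl_eq_one_iff.1 ?_, cl_eq_iff.1 ?_⟩
    · rw [cl_tensorPow, cl_tensor, mul_pow, hd, hVc, ← Units.val_pow_eq_pow_val, ← Units.val_mul, Units.val_eq_one,
        ← zpow_natCast, ← vt_smul, ← vt_add, vt_eq_one_iff hL hreg hΓ hR]
      refine ⟨e, fun i => ?_⟩
      have := hce i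
      simp only [Pi.add_apply, Pi.smul_apply, smul_eq_mul, Pi.neg_apply, d]
      linarith
    · rw [← CubeConsLib.pull_cl, cl_tensor, map_mul, hVc, pull_vt hL hreg hΓ hg, mul_one, CubeConsLib.pull_cl]
      exact cl_eq_iff.2 hMN

include hL hreg hΓ hR hg in
theorem s19918 [Nonempty (Fin n)] {h : ℕ} (hh : 0 < h) {M : X.left.Modules} (hM : PicF.IsInvertible M)
    (htors : Nonempty (CohB1.tensorPow M h ≅ Coh.structureModule X.left))
    (htriv : Nonempty ((Scheme.Modules.pullback g).obj M ≅ Coh.structureModule C)) :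
    ∃! k : ℕ, k < Nat.gcd h (Models.multGcd R X Γ) ∧
      Nonempty (M ≅ FGA.multiTwist L (fun i => k * (Models.mult R X (Γ i) / Nat.gcd h (Models.multGcd R X Γ)))) := by
  set G := Models.multGcd R X Γ with hG
  set e := Nat.gcd h G
  have he : 0 < e := Nat.gcd_pos_of_pos_left _ hh
  obtain ⟨h', hh'⟩ : e ∣ h := Nat.gcd_dvd_left h G
  obtain ⟨G', hG'⟩ : e ∣ G := Nat.gcd_dvd_right h G
  have hcop : Nat.Coprime h' G' := by
    have h1 : e = e * Nat.gcd h' G' := by
      rw [← Nat.gcd_mul_left, ← hh', ← hG']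
    exact (Nat.eq_of_mul_eq_mul_left he ((mul_one e).trans h1)).symm
  have hdiv : ∀ i, ∃ q, Models.mult R X (Γ i) = e * q := fun i =>
    (Nat.gcd_dvd_right h G).trans (hG ▸ Finset.gcd_dvd (Finset.mem_univ i))
  choose q hq using hdiv
  have hqe : ∀ i, Models.mult R X (Γ i) / e = q i := fun i => by rw [hq i, Nat.mul_div_cancel_left _ he]
  obtain ⟨a, b, hab⟩ := exists_vt hL hreg hΓ hg hM htriv
  set d : Fin n → ℤ := fun i => (a i : ℤ) - (b i : ℤ)
  have h1 : cl (CohB1.tensorPow M h) = 1 := cl_eq_one_iff.2 htors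
  rw [cl_tensorPow, ← hab, ← Units.val_pow_eq_pow_val, Units.val_eq_one, ← zpow_natCast, ← vt_smul,
    vt_eq_one_iff hL hreg hΓ hR] at h1
  obtain ⟨c, hc⟩ := h1
  simp only [Pi.smul_apply, smul_eq_mul] at hc
  have h2 : (h : ℤ) ∣ c * (G : ℤ) :=
    dvd_mul_gcd (fun i => Models.mult R X (Γ i)) fun i => ⟨_, (hc i).symm⟩
  have h3 : (h' : ℤ) ∣ c := by
    refine Int.dvd_of_dvd_mul_left_of_gcd_one ?_ (show Int.gcd (h' : ℤ) (G' : ℤ) = 1 by exact_mod_cast hcop)
    refine Int.dvd_of_mul_dvd_mul_left (show (e : ℤ) ≠ 0 by exact_mod_cast he.ne') ?_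
    rw [hh', hG'] at h2
    push_cast at h2
    rwa [mul_left_comm] at h2
  obtain ⟨c', rfl⟩ := h3
  have hd : ∀ i, d i = c' * (q i : ℤ) := fun i => by
    refine mul_left_cancel₀ (show (h : ℤ) ≠ 0 by exact_mod_cast hh.ne') ((hc i).trans ?_)
    rw [hq i, hh']
    push_cast
    ring
  have key : ∀ k : ℕ, Nonempty (M ≅ FGA.multiTwist L fun i => k * (Models.mult R X (Γ i) / e)) ↔
      (e : ℤ) ∣ c' - k := fun k => by
    rw [← cl_eq_iff, ← hab, ← val_vt_natCast hL, Units.val_inj, ← div_eq_one, ← vt_sub,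
      vt_eq_one_iff hL hreg hΓ hR]
    constructor
    · rintro ⟨c₀, hc₀⟩
      obtain ⟨i⟩ := ‹Nonempty (Fin n)›
      have hqi : (q i : ℤ) ≠ 0 := by
        have := mult_pos hreg hΓ i
        rw [hq i] at this
        exact_mod_cast (Nat.pos_of_mul_pos_left this).ne'
      refine ⟨c₀, mul_right_cancel₀ hqi ?_⟩
      have h4 := hc₀ i
      simp only [Pi.sub_apply] at h4
      rw [hqe, hq i] at h4
      push_cast at h4
      rw [hd i] at h4
      linarith
    · rintro ⟨c₀, hc₀⟩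
      refine ⟨c₀, fun i => ?_⟩
      simp only [Pi.sub_apply]
      rw [hqe, hq i, hd i]
      push_cast
      rw [show c' = (k : ℤ) + e * c₀ by linarith]
      ring
  have he' : (e : ℤ) ≠ 0 := by exact_mod_cast he.ne'
  refine ⟨(c' % (e : ℤ)).toNat, ⟨?_, ?_⟩, ?_⟩
  · have h5 := Int.emod_lt_of_pos c' (show (0 : ℤ) < e by exact_mod_cast he)
    have h6 := Int.emod_nonneg c' he'
    omega
  · refine (key _).2 ?_
    rw [Int.toNat_of_nonneg (Int.emod_nonneg _ he')]
    exact Int.dvd_self_sub_emod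
  · rintro k ⟨hk, hM'⟩
    have h5 := (key k).1 hM'
    have h6 : ((k : ℤ)) = c' % (e : ℤ) := by
      rw [← Int.emod_eq_of_lt (Int.natCast_nonneg k) (show (k : ℤ) < e by exact_mod_cast hk)]
      exact (Int.emod_eq_emod_iff_emod_sub_eq_zero.2 (Int.emod_eq_zero_of_dvd (by
        rw [show (k : ℤ) - c' = -(c' - k) by ring]; exact dvd_neg.2 h5)))
    rw [← h6]
    rfl

include hreg hΓ in
theorem s7326 {L' : X.left.Modules}
    (hL' : ClSub.IsInverseOf L'
      (ClSub.idealMod (∏ i, (Γ i).ι.ker ^ (Models.mult R X (Γ i) / Models.multGcd R X Γ)))) :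
    Nonempty (CohB1.tensorPow L' (Models.multGcd R X Γ) ≅ Coh.structureModule X.left) ∧
      Nonempty (CohB1.tensorPow ((Scheme.Modules.pullback
          (∏ i, (Γ i).ι.ker ^ (Models.mult R X (Γ i) / Models.multGcd R X Γ)).subschemeι).obj
          (ClSub.idealMod (∏ i, (Γ i).ι.ker ^ (Models.mult R X (Γ i) / Models.multGcd R X Γ))))
          (Models.multGcd R X Γ) ≅
        Coh.structureModule (∏ i, (Γ i).ι.ker ^ (Models.mult R X (Γ i) / Models.multGcd R X Γ)).subscheme) := by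
  have hC := fun i => isEffCartier_ker hreg (Γ i) (isFibGen_of_list hΓ i)
  choose L hL using fun i => exists_inverse (IntMultLib.isInvertible_idealMod _ (hC i))
  set G := Models.multGcd R X Γ with hG
  set J := ∏ i, (Γ i).ι.ker ^ (Models.mult R X (Γ i) / G) with hJdef
  have hGd : ∀ i, Models.mult R X (Γ i) / G * G = Models.mult R X (Γ i) := fun i =>
    Nat.div_mul_cancel (hG ▸ Finset.gcd_dvd (Finset.mem_univ i))
  have hJ : idc J ^ G = 1 := by
    rw [hJdef, ← inv_vt_natCast hL hreg hΓ, ← Units.val_pow_eq_pow_val, Units.val_eq_one, inv_pow, inv_eq_one,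
      ← zpow_natCast, ← vt_smul]
    refine Eq.trans ?_ (vt_mult hL hreg hΓ)
    congr 1
    funext i
    rw [Pi.smul_apply, smul_eq_mul]
    exact_mod_cast (mul_comm _ _).trans (hGd i)
  have hLJ : cl L' * idc J = 1 := by rw [idc, ← cl_tensor]; exact cl_eq_one_iff.2 hL'
  refine ⟨cl_eq_one_iff.1 ?_, cl_eq_one_iff.1 ?_⟩
  · have h1 := congrArg (· ^ G) hLJ
    simp only [mul_pow, hJ, mul_one, one_pow] at h1
    rw [cl_tensorPow, h1]
  · rw [cl_tensorPow, ← CubeConsLib.pull_cl, ← map_pow]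
    show pull _ (idc J ^ G) = 1
    rw [hJ, map_one]

end VertIntLib
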